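import Mathlib
import Groth.Prelude.Def_CAlg
import Groth.Agent.Lib.Helper1.FibInj5

/-!
# Depth ≥ 2 from the fibre (helper8; S16423)

* `exists_regular_pair`: a Noetherian normal local domain of dimension `≥ 2` has a regular
  sequence of length two in its maximal ideal.
* `lift_regular`: regular sequences on the fibre of a flat, finitely presented algebra lift to
  regular sequences on the local ring (EGA 0_IV 15.1.16, non-Noetherian form, via helper1's
  `fibInj_at_prime`).
* `depth_ge_two`: conversion to `LocCoh.depth`.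
-/

set_option autoImplicit false
universe u
open IsLocalRing

namespace Groth.Agent.H8.FibDepth2

/-- A Noetherian integrally closed local domain of dimension at least two has depth at least
two. -/
theorem exists_regular_pair (D : Type u) [CommRing D] [IsDomain D] [IsLocalRing D]
    [IsNoetherianRing D] [IsIntegrallyClosed D] (hdim : (2 : WithBot ℕ∞) ≤ ringKrullDim D) :
    ∃ φ₁ φ₂ : D, φ₁ ∈ maximalIdeal D ∧ φ₂ ∈ maximalIdeal D ∧ φ₁ ≠ 0 ∧
      ∀ y : D, φ₂ * y ∈ Ideal.span {φ₁} → y ∈ Ideal.span {φ₁} := by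
  classical
  have hm_ne : maximalIdeal D ≠ ⊥ := by
    intro h
    have hf : IsField D := IsLocalRing.isField_iff_maximalIdeal_eq.mpr h
    rw [ringKrullDim_eq_zero_of_isField hf] at hdim
    exact absurd hdim (by norm_num)
  obtain ⟨φ₁, hφ₁m, hφ₁0⟩ := Submodule.exists_mem_ne_zero_of_ne_bot hm_ne
  by_contra hcon
  have hzd : ∀ φ₂ ∈ maximalIdeal D, ∃ y, φ₂ * y ∈ Ideal.span {φ₁} ∧ y ∉ Ideal.span {φ₁} := by
    intro φ₂ h2
    by_contra h3
    push Not at h3
    exact hcon ⟨φ₁, φ₂, hφ₁m, h2, hφ₁0, h3⟩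
  have hfin := associatedPrimes.finite D (D ⧸ Ideal.span {φ₁})
  have hsub : ((maximalIdeal D : Ideal D) : Set D) ⊆
      ⋃ p ∈ (↑hfin.toFinset : Set (Ideal D)), ((id p : Ideal D) : Set D) := by
    intro φ₂ h2
    obtain ⟨y, hy1, hy2⟩ := hzd φ₂ h2
    have h1 : φ₂ ∈ {r : D | ∃ x : D ⧸ Ideal.span {φ₁}, x ≠ 0 ∧ r • x = 0} := by
      refine ⟨Ideal.Quotient.mk _ y, ?_, ?_⟩
      · rwa [Ne, Ideal.Quotient.eq_zero_iff_mem]
      · change Ideal.Quotient.mk _ (φ₂ * y) = 0
        rwa [Ideal.Quotient.eq_zero_iff_mem]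
    rw [← biUnion_associatedPrimes_eq_zero_divisors] at h1
    simpa using h1
  rw [Ideal.subset_union_prime (R := D) (s := hfin.toFinset) (f := id) ⊥ ⊥ (fun i hi _ _ =>
    (hfin.mem_toFinset.mp hi).isPrime)] at hsub
  obtain ⟨P, hP, hle⟩ := hsub
  have hPass := hfin.mem_toFinset.mp hP
  have hPm : P = maximalIdeal D :=
    ((maximalIdeal.isMaximal D).eq_of_le hPass.isPrime.ne_top hle).symm
  obtain ⟨-, gb, hgb⟩ := isAssociatedPrime_iff.mp hPass
  obtain ⟨g, rfl⟩ := Ideal.Quotient.mk_surjective gb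
  have hg_not : g ∉ Ideal.span {φ₁} := by
    intro hg
    apply hPass.isPrime.ne_top
    rw [hgb, Ideal.eq_top_iff_one, Submodule.mem_colon_singleton, one_smul, Submodule.mem_bot]
    exact Ideal.Quotient.eq_zero_iff_mem.mpr hg
  have hmg : ∀ y ∈ maximalIdeal D, ∃ c, y * g = c * φ₁ := by
    intro y hy
    have h1 : y ∈ Submodule.colon (⊥ : Submodule D (D ⧸ Ideal.span {φ₁}))
        {Ideal.Quotient.mk (Ideal.span {φ₁}) g} := by
      rw [← hgb, hPm]
      exact hy
    rw [Submodule.mem_colon_singleton, Submodule.mem_bot] at h1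
    have h2 : Ideal.Quotient.mk (Ideal.span {φ₁}) (y * g) = 0 := h1
    rw [Ideal.Quotient.eq_zero_iff_mem, Ideal.mem_span_singleton'] at h2
    obtain ⟨c, hc⟩ := h2
    exact ⟨c, hc.symm⟩
  have hg0 : g ≠ 0 := fun h => hg_not (h ▸ Ideal.zero_mem _)
  choose! c hc using hmg
  by_cases hcase : ∀ y ∈ maximalIdeal D, c y ∈ maximalIdeal D
  · -- `g / φ₁` is integral
    let K := FractionRing D
    let z : K := algebraMap D K g / algebraMap D K φ₁
    have hφK : algebraMap D K φ₁ ≠ 0 := by
      intro h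
      exact hφ₁0 ((IsFractionRing.injective D K) (h.trans (map_zero _).symm))
    let Nm : Submodule D K := Submodule.map (Algebra.linearMap D K) (maximalIdeal D)
    have hNne : Nm ≠ ⊥ := by
      intro h
      apply hφ₁0
      have h1 : Algebra.linearMap D K φ₁ ∈ Nm := Submodule.mem_map_of_mem hφ₁m
      rw [h, Submodule.mem_bot] at h1
      exact (IsFractionRing.injective D K) (h1.trans (map_zero _).symm)
    have hNfg : Nm.FG := (IsNoetherian.noetherian (maximalIdeal D)).map _
    have hint : IsIntegral D z := by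
      refine isIntegral_of_smul_mem_submodule Nm hNne hNfg z ?_
      rintro _ ⟨y, hy, rfl⟩
      refine ⟨c y, hcase y hy, ?_⟩
      rw [Algebra.linearMap_apply, Algebra.linearMap_apply, smul_eq_mul]
      change algebraMap D K (c y) = algebraMap D K g / algebraMap D K φ₁ * algebraMap D K y
      rw [div_mul_eq_mul_div, eq_comm, div_eq_iff hφK, ← map_mul, ← map_mul, mul_comm g y,
        hc y hy]
    obtain ⟨d, hd⟩ := IsIntegrallyClosed.isIntegral_iff.mp hint
    apply hg_not
    rw [Ideal.mem_span_singleton']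
    refine ⟨d, ?_⟩
    apply IsFractionRing.injective D K
    rw [map_mul, hd]
    exact div_mul_cancel₀ _ hφK
  · push Not at hcase
    obtain ⟨y₀, hy₀, hcy₀⟩ := hcase
    have hu : IsUnit (c y₀) := by
      by_contra h
      exact hcy₀ ((IsLocalRing.mem_maximalIdeal _).mpr h)
    obtain ⟨u, hu⟩ := hu
    have hπm : y₀ * ↑u⁻¹ ∈ maximalIdeal D := Ideal.mul_mem_right _ _ hy₀
    have hπ : y₀ * ↑u⁻¹ * g = φ₁ := by
      have h1 := hc y₀ hy₀
      calc y₀ * ↑u⁻¹ * g = ↑u⁻¹ * (y₀ * g) := by ring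
        _ = ↑u⁻¹ * (↑u * φ₁) := by rw [h1, hu]
        _ = φ₁ := by rw [← mul_assoc, Units.inv_mul, one_mul]
    have hmle : maximalIdeal D ≤ Ideal.span {y₀ * ↑u⁻¹} := by
      intro y hy
      rw [Ideal.mem_span_singleton']
      refine ⟨c y, ?_⟩
      have h1 := hc y hy
      rw [← hπ, ← mul_assoc] at h1
      exact (mul_right_cancel₀ hg0 h1).symm
    have hmeq : maximalIdeal D = Ideal.span {y₀ * ↑u⁻¹} :=
      le_antisymm hmle ((Ideal.span_singleton_le_iff_mem _).mpr hπm)
    have hht : (maximalIdeal D).height ≤ 1 := by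
      haveI : (maximalIdeal D).IsPrincipal := ⟨⟨y₀ * ↑u⁻¹, hmeq⟩⟩
      refine Ideal.height_le_one_of_isPrincipal_of_mem_minimalPrimes (maximalIdeal D)
        (maximalIdeal D) ?_
      rw [Ideal.minimalPrimes_eq_subsingleton_self]
      exact rfl
    rw [← IsLocalRing.maximalIdeal_height_eq_ringKrullDim] at hdim
    have h2 : (2 : ℕ∞) ≤ (maximalIdeal D).height := WithBot.coe_le_coe.mp hdim
    exact absurd (h2.trans hht) (by norm_num)

section lift

variable {A B : Type u} [CommRing A] [CommRing B] [Algebra A B] [Algebra.FinitePresentation A B]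
  (q : Ideal B) [q.IsPrime]

theorem mem_smul_top_quot {N : Type u} [AddCommGroup N] [Module B N] [Module A N]
    [IsScalarTower A B N] (p : Ideal A) (K : Submodule B N) (z : N) :
    K.mkQ z ∈ p • (⊤ : Submodule A (N ⧸ K)) ↔ ∃ n ∈ p • (⊤ : Submodule A N), z - n ∈ K := by
  have h1 : p • (⊤ : Submodule A (N ⧸ K)) =
      Submodule.map (K.mkQ.restrictScalars A) (p • (⊤ : Submodule A N)) := by
    rw [Submodule.map_smul'', Submodule.map_top]
    congr 1
    symm
    rw [LinearMap.range_eq_top]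
    exact K.mkQ_surjective
  rw [h1, Submodule.mem_map]
  constructor
  · rintro ⟨n, hn, hnz⟩
    refine ⟨n, hn, ?_⟩
    have h2 : K.mkQ n = K.mkQ z := hnz
    have h3 : K.mkQ (z - n) = 0 := by
      rw [map_sub, h2, sub_self]
    rwa [Submodule.mkQ_apply, Submodule.Quotient.mk_eq_zero] at h3
  · rintro ⟨n, hn, hzn⟩
    refine ⟨n, hn, ?_⟩
    change K.mkQ n = K.mkQ z
    have h3 : K.mkQ (z - n) = 0 := by
      rwa [Submodule.mkQ_apply, Submodule.Quotient.mk_eq_zero]
    rw [map_sub, sub_eq_zero] at h3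
    exact h3.symm

theorem two_step {N : Type u} [AddCommGroup N] [Module B N] [Module A N] [IsScalarTower A B N]
    [Module.FinitePresentation B N] (b₁ b₂ : B)
    (hflat : Module.Flat A (LocalizedModule q.primeCompl N))
    (h1 : ∀ x : N, (∃ σ ∈ q.primeCompl,
        σ • b₁ • x ∈ (q.comap (algebraMap A B)) • (⊤ : Submodule A N)) →
      ∃ τ ∈ q.primeCompl, τ • x ∈ (q.comap (algebraMap A B)) • (⊤ : Submodule A N))
    (h2 : ∀ x : N, (∃ σ ∈ q.primeCompl,
        ∃ n ∈ (q.comap (algebraMap A B)) • (⊤ : Submodule A N), ∃ y : N,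
          σ • b₂ • x = n + b₁ • y) →
      ∃ τ ∈ q.primeCompl, ∃ n ∈ (q.comap (algebraMap A B)) • (⊤ : Submodule A N), ∃ y : N,
        τ • x = n + b₁ • y) :
    (∀ x : N, b₁ • x = 0 → ∃ τ ∈ q.primeCompl, τ • x = 0) ∧
    (∀ x y : N, b₂ • x = b₁ • y → ∃ τ ∈ q.primeCompl, ∃ y' : N, τ • x = b₁ • y') := by
  haveI : Module.Finite B N := inferInstance
  obtain ⟨c1, hflat₂⟩ := Groth.Agent.H1.FibInj.fibInj_at_prime q (LinearMap.lsmul B N b₁) hflat
    (fun x hx => h1 x (by simpa only [LinearMap.lsmul_apply] using hx))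
  refine ⟨fun x hx => c1 x (by rwa [LinearMap.lsmul_apply]), ?_⟩
  have hKmem : ∀ z : N, z ∈ LinearMap.range (LinearMap.lsmul B N b₁) ↔ ∃ y, b₁ • y = z :=
    fun z => by
      rw [LinearMap.mem_range]
      simp only [LinearMap.lsmul_apply]
  haveI : Module.FinitePresentation B (N ⧸ LinearMap.range (LinearMap.lsmul B N b₁)) :=
    Module.finitePresentation_of_surjective (LinearMap.range (LinearMap.lsmul B N b₁)).mkQ
      (Submodule.mkQ_surjective _) (by
      rw [Submodule.ker_mkQ]
      exact Module.Finite.iff_fg.mp inferInstance)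
  obtain ⟨c2, -⟩ := Groth.Agent.H1.FibInj.fibInj_at_prime q
    (LinearMap.lsmul B (N ⧸ LinearMap.range (LinearMap.lsmul B N b₁)) b₂) hflat₂ (by
    intro xb hxb
    obtain ⟨x, rfl⟩ := (LinearMap.range (LinearMap.lsmul B N b₁)).mkQ_surjective xb
    obtain ⟨σ, hσ, hmem⟩ := hxb
    rw [LinearMap.lsmul_apply, ← map_smul, ← map_smul, mem_smul_top_quot] at hmem
    obtain ⟨n, hn, hzn⟩ := hmem
    obtain ⟨y, hy⟩ := (hKmem _).mp hzn
    obtain ⟨τ, hτ, n', hn', y', hy'⟩ := h2 x ⟨σ, hσ, n, hn, y, by rw [hy]; abel⟩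
    refine ⟨τ, hτ, ?_⟩
    rw [← map_smul, mem_smul_top_quot]
    exact ⟨n', hn', (hKmem _).mpr ⟨y', by rw [hy']; abel⟩⟩)
  intro x y hxy
  have h0 : b₂ • (LinearMap.range (LinearMap.lsmul B N b₁)).mkQ x = 0 := by
    rw [← map_smul, hxy, Submodule.mkQ_apply, Submodule.Quotient.mk_eq_zero]
    exact (hKmem _).mpr ⟨y, rfl⟩
  obtain ⟨τ, hτ, h3⟩ := c2 ((LinearMap.range (LinearMap.lsmul B N b₁)).mkQ x)
    (by rwa [LinearMap.lsmul_apply])
  rw [← map_smul, Submodule.mkQ_apply, Submodule.Quotient.mk_eq_zero] at h3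
  obtain ⟨y', hy'⟩ := (hKmem _).mp h3
  exact ⟨τ, hτ, y', hy'.symm⟩

theorem lift_regular_aux [Module.Flat A B] (O : Type u) [CommRing O] [Algebra B O]
    [IsLocalization.AtPrime O q] (b₁ b₂ : B)
    (H1 : ∀ y : O, algebraMap B O b₁ * y ∈
        ((q.comap (algebraMap A B)).map (algebraMap A B)).map (algebraMap B O) →
      y ∈ ((q.comap (algebraMap A B)).map (algebraMap A B)).map (algebraMap B O))
    (H2 : ∀ y : O, algebraMap B O b₂ * y ∈
        ((q.comap (algebraMap A B)).map (algebraMap A B)).map (algebraMap B O) ⊔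
          Ideal.span {algebraMap B O b₁} →
      y ∈ ((q.comap (algebraMap A B)).map (algebraMap A B)).map (algebraMap B O) ⊔
          Ideal.span {algebraMap B O b₁}) :
    (∀ y : O, algebraMap B O b₁ * y = 0 → y = 0) ∧
    (∀ y : O, algebraMap B O b₂ * y ∈ Ideal.span {algebraMap B O b₁} →
      y ∈ Ideal.span {algebraMap B O b₁}) := by
  have F1 : ∀ z : B, z ∈ (q.comap (algebraMap A B)) • (⊤ : Submodule A B) ↔
      z ∈ (q.comap (algebraMap A B)).map (algebraMap A B) := by
    intro z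
    constructor
    · intro hz
      refine Submodule.smul_induction_on hz (fun a ha y _ => ?_) (fun x y hx hy => ?_)
      · rw [Algebra.smul_def]
        exact Ideal.mul_mem_right _ _ (Ideal.mem_map_of_mem _ ha)
      · exact Ideal.add_mem _ hx hy
    · intro hz
      refine (Groth.Agent.H1.FibInj.mem_map_smul_top_iff (B := B) _ z).mp ?_
      have h1 : z • (1 : B) ∈ (q.comap (algebraMap A B)).map (algebraMap A B) •
          (⊤ : Submodule B B) := Submodule.smul_mem_smul hz Submodule.mem_top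
      have h2 : z • (1 : B) = z := by rw [smul_eq_mul, mul_one]
      rwa [h2] at h1
  have hunit : ∀ σ ∈ q.primeCompl, IsUnit (algebraMap B O σ) := fun σ hσ =>
    IsLocalization.map_units O (⟨σ, hσ⟩ : q.primeCompl)
  have F2 : ∀ (I' : Ideal B) (z : B), algebraMap B O z ∈ I'.map (algebraMap B O) ↔
      ∃ τ ∈ q.primeCompl, τ * z ∈ I' :=
    fun I' z => IsLocalization.algebraMap_mem_map_algebraMap_iff q.primeCompl O I' z
  have F3 : ((q.comap (algebraMap A B)).map (algebraMap A B)).map (algebraMap B O) ⊔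
      Ideal.span {algebraMap B O b₁} =
        ((q.comap (algebraMap A B)).map (algebraMap A B) ⊔ Ideal.span {b₁}).map
          (algebraMap B O) := by
    rw [Ideal.map_sup, Ideal.map_span, Set.image_singleton]
  have F4 : Ideal.span {algebraMap B O b₁} = (Ideal.span {b₁}).map (algebraMap B O) := by
    rw [Ideal.map_span, Set.image_singleton]
  have hflat : Module.Flat A (LocalizedModule q.primeCompl B) :=
    Localization.flat (R := A) (S := B) q.primeCompl
  have key := two_step q (N := B) b₁ b₂ hflat ?_ ?_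
  · obtain ⟨c1, c2⟩ := key
    constructor
    · intro y hy
      obtain ⟨⟨z, s⟩, hzs⟩ := IsLocalization.surj q.primeCompl y
      simp only at hzs
      have hus : IsUnit (algebraMap B O s) := IsLocalization.map_units O s
      have h1 : algebraMap B O (b₁ * z) = 0 := by
        rw [map_mul, ← hzs, ← mul_assoc, hy, zero_mul]
      obtain ⟨t, ht⟩ := (IsLocalization.map_eq_zero_iff q.primeCompl O _).mp h1
      obtain ⟨τ, hτ, h2⟩ := c1 ((t : B) * z) (by
        rw [smul_eq_mul, ← ht]
        ring)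
      have h3 : algebraMap B O z = 0 := by
        refine (IsLocalization.map_eq_zero_iff q.primeCompl O _).mpr ⟨⟨τ, hτ⟩ * t, ?_⟩
        rw [Submonoid.coe_mul, mul_assoc]
        exact h2
      rw [h3] at hzs
      exact hus.mul_left_eq_zero.mp hzs
    · intro y hy
      obtain ⟨⟨z, s⟩, hzs⟩ := IsLocalization.surj q.primeCompl y
      simp only at hzs
      have hus : IsUnit (algebraMap B O s) := IsLocalization.map_units O s
      have h1 : algebraMap B O (b₂ * z) ∈ (Ideal.span {b₁}).map (algebraMap B O) := by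
        rw [← F4, map_mul, ← hzs, ← mul_assoc]
        exact Ideal.mul_mem_right _ _ hy
      obtain ⟨t, ht, h2⟩ := (F2 _ _).mp h1
      obtain ⟨w, hw⟩ := Ideal.mem_span_singleton'.mp h2
      obtain ⟨τ, hτ, y', hy'⟩ := c2 (t * z) w (by
        simp only [smul_eq_mul]
        rw [mul_comm b₁ w, hw]
        ring)
      have h3 : algebraMap B O z ∈ (Ideal.span {b₁}).map (algebraMap B O) := by
        refine (F2 _ _).mpr ⟨τ * t, q.primeCompl.mul_mem hτ ht, ?_⟩
        rw [Ideal.mem_span_singleton']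
        refine ⟨y', ?_⟩
        rw [mul_comm y' b₁, mul_assoc]
        exact hy'.symm
      rw [← F4, ← hzs] at h3
      exact (Ideal.mul_unit_mem_iff_mem _ hus).mp h3
  · rintro z ⟨σ, hσ, hmem⟩
    rw [F1] at hmem
    have h2 : algebraMap B O σ * (algebraMap B O b₁ * algebraMap B O z) ∈
        ((q.comap (algebraMap A B)).map (algebraMap A B)).map (algebraMap B O) := by
      rw [← map_mul, ← map_mul]
      exact Ideal.mem_map_of_mem _ hmem
    have h3 := H1 _ ((Ideal.unit_mul_mem_iff_mem _ (hunit σ hσ)).mp h2)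
    obtain ⟨τ, hτ, h4⟩ := (F2 _ z).mp h3
    exact ⟨τ, hτ, (F1 _).mpr h4⟩
  · rintro z ⟨σ, hσ, n, hn, y, hy⟩
    have h1 : σ * (b₂ * z) ∈
        (q.comap (algebraMap A B)).map (algebraMap A B) ⊔ Ideal.span {b₁} := by
      have h0 : σ * (b₂ * z) = n + b₁ * y := hy
      rw [h0]
      exact Submodule.add_mem_sup ((F1 n).mp hn)
        (Ideal.mem_span_singleton'.mpr ⟨y, mul_comm _ _⟩)
    have h2 : algebraMap B O σ * (algebraMap B O b₂ * algebraMap B O z) ∈
        ((q.comap (algebraMap A B)).map (algebraMap A B)).map (algebraMap B O) ⊔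
          Ideal.span {algebraMap B O b₁} := by
      rw [F3, ← map_mul, ← map_mul]
      exact Ideal.mem_map_of_mem _ h1
    have h3 := H2 _ ((Ideal.unit_mul_mem_iff_mem _ (hunit σ hσ)).mp h2)
    rw [F3] at h3
    obtain ⟨τ, hτ, h4⟩ := (F2 _ z).mp h3
    obtain ⟨n', hn', t, ht, hnt⟩ := Submodule.mem_sup.mp h4
    obtain ⟨y', rfl⟩ := Ideal.mem_span_singleton'.mp ht
    exact ⟨τ, hτ, n', (F1 _).mpr hn', y', by
      rw [smul_eq_mul, smul_eq_mul, ← hnt, mul_comm y' b₁]⟩

/-- **Lifting a regular sequence from the fibre** of a flat finitely presented algebra. -/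
theorem lift_regular [Module.Flat A B] (O : Type u) [CommRing O] [Algebra B O]
    [IsLocalization.AtPrime O q] (G₁ G₂ : O)
    (H1 : ∀ y : O, G₁ * y ∈
        ((q.comap (algebraMap A B)).map (algebraMap A B)).map (algebraMap B O) →
      y ∈ ((q.comap (algebraMap A B)).map (algebraMap A B)).map (algebraMap B O))
    (H2 : ∀ y : O, G₂ * y ∈
        ((q.comap (algebraMap A B)).map (algebraMap A B)).map (algebraMap B O) ⊔
          Ideal.span {G₁} →
      y ∈ ((q.comap (algebraMap A B)).map (algebraMap A B)).map (algebraMap B O) ⊔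
          Ideal.span {G₁}) :
    (∀ y : O, G₁ * y = 0 → y = 0) ∧
    (∀ y : O, G₂ * y ∈ Ideal.span {G₁} → y ∈ Ideal.span {G₁}) := by
  obtain ⟨⟨b₁, s₁⟩, hb₁⟩ := IsLocalization.surj q.primeCompl G₁
  obtain ⟨⟨b₂, s₂⟩, hb₂⟩ := IsLocalization.surj q.primeCompl G₂
  simp only at hb₁ hb₂
  have hu₁ : IsUnit (algebraMap B O s₁) := IsLocalization.map_units O s₁
  have hu₂ : IsUnit (algebraMap B O s₂) := IsLocalization.map_units O s₂
  have hspan : Ideal.span {algebraMap B O b₁} = Ideal.span {G₁} := by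
    rw [← hb₁, Ideal.span_singleton_mul_right_unit hu₁]
  have key := lift_regular_aux (A := A) q O b₁ b₂ ?_ ?_
  · obtain ⟨c1, c2⟩ := key
    refine ⟨fun y hy => c1 y ?_, fun y hy => ?_⟩
    · rw [← hb₁, mul_right_comm, hy, zero_mul]
    · rw [← hspan]
      apply c2
      rw [hspan, ← hb₂, mul_right_comm]
      exact Ideal.mul_mem_right _ _ hy
  · intro y hy
    rw [← hb₁, mul_right_comm] at hy
    exact H1 y ((Ideal.mul_unit_mem_iff_mem _ hu₁).mp hy)
  · intro y hy
    rw [hspan] at hy ⊢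
    rw [← hb₂, mul_right_comm] at hy
    exact H2 y ((Ideal.mul_unit_mem_iff_mem _ hu₂).mp hy)

end lift

/-- A regular sequence of length two in the maximal ideal gives depth at least two. -/
theorem depth_ge_two (O : Type u) [CommRing O] [IsLocalRing O] (G₁ G₂ : O)
    (hG₁ : G₁ ∈ maximalIdeal O) (hG₂ : G₂ ∈ maximalIdeal O)
    (c1 : ∀ y : O, G₁ * y = 0 → y = 0)
    (c2 : ∀ y : O, G₂ * y ∈ Ideal.span {G₁} → y ∈ Ideal.span {G₁}) :
    (2 : ℕ∞) ≤ LocCoh.depth O O := by
  unfold LocCoh.depth LocCoh.idealDepth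
  split_ifs with h
  · exact le_top
  · have hreg : RingTheory.Sequence.IsWeaklyRegular O [G₁, G₂] := by
      rw [RingTheory.Sequence.isWeaklyRegular_cons_iff,
        RingTheory.Sequence.isWeaklyRegular_cons_iff]
      refine ⟨?_, ?_, RingTheory.Sequence.IsWeaklyRegular.nil _ _⟩
      · rw [isSMulRegular_iff_right_eq_zero_of_smul]
        intro y hy
        exact c1 y (by rwa [smul_eq_mul] at hy)
      · rw [isSMulRegular_iff_right_eq_zero_of_smul]
        intro yb hyb
        obtain ⟨y, rfl⟩ := Submodule.Quotient.mk_surjective _ yb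
        rw [← Submodule.Quotient.mk_smul, Submodule.Quotient.mk_eq_zero,
          Submodule.mem_smul_pointwise_iff_exists] at hyb
        obtain ⟨c, -, hc⟩ := hyb
        have h3 : y ∈ Ideal.span {G₁} := c2 y (by
          rw [Ideal.mem_span_singleton']
          refine ⟨c, ?_⟩
          rw [mul_comm]
          simpa only [smul_eq_mul] using hc)
        rw [Submodule.Quotient.mk_eq_zero, Submodule.mem_smul_pointwise_iff_exists]
        obtain ⟨d, hd⟩ := Ideal.mem_span_singleton'.mp h3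
        exact ⟨d, Submodule.mem_top, by rw [smul_eq_mul, mul_comm]; exact hd⟩
    refine le_trans ?_ (le_iSup₂ (f := fun (rs : List O)
      (_ : RingTheory.Sequence.IsWeaklyRegular O rs ∧ ∀ r ∈ rs, r ∈ maximalIdeal O) =>
        (rs.length : ℕ∞)) [G₁, G₂] ⟨hreg, ?_⟩)
    · simp
    · intro r hr
      simp only [List.mem_cons, List.not_mem_nil, or_false] at hr
      rcases hr with rfl | rfl
      exacts [hG₁, hG₂]

end Groth.Agent.H8.FibDepth2
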