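import Mathlib
import Groth.Agent.Lib.Helper1.FibInj7
import Groth.Agent.Lib.Helper8.FibDepth2.Alg

/-!
# Algebra for the relative Hartogs lemma (helper8; S16427)
-/

set_option autoImplicit false
universe u
open IsLocalRing

namespace Groth.Agent.H8.FibDepth2

theorem pow_nzd {O : Type u} [CommRing O] (x : O) (c1 : ∀ t : O, x * t = 0 → t = 0) :
    ∀ (k : ℕ) (t : O), x ^ k * t = 0 → t = 0 := by
  intro k
  induction k with
  | zero =>
    intro t ht
    rwa [pow_zero, one_mul] at ht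
  | succ k ih =>
    intro t ht
    refine ih t (c1 _ ?_)
    rw [← mul_assoc, ← pow_succ']
    exact ht

/-- powers of a regular pair form a regular pair -/
theorem pw_regular {O : Type u} [CommRing O] (x y : O) (c1 : ∀ t : O, x * t = 0 → t = 0)
    (c2 : ∀ t : O, y * t ∈ Ideal.span {x} → t ∈ Ideal.span {x}) :
    ∀ (i j : ℕ) (t : O), y ^ j * t ∈ Ideal.span {x ^ i} → t ∈ Ideal.span {x ^ i} := by
  have h1 : ∀ (i : ℕ) (t : O), y * t ∈ Ideal.span {x ^ i} → t ∈ Ideal.span {x ^ i} := by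
    intro i
    induction i with
    | zero =>
      intro t _
      rw [pow_zero, Ideal.span_singleton_one]
      exact Submodule.mem_top
    | succ i ih =>
      intro t ht
      obtain ⟨c, hc⟩ := Ideal.mem_span_singleton'.mp ht
      have h2 : t ∈ Ideal.span {x} := c2 t (by
        rw [Ideal.mem_span_singleton']
        refine ⟨c * x ^ i, ?_⟩
        rw [← hc, pow_succ]
        ring)
      obtain ⟨t', ht'⟩ := Ideal.mem_span_singleton'.mp h2
      have h3 : y * t' = c * x ^ i := by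
        have h4 : x * (y * t' - c * x ^ i) = 0 := by
          have h5 : x * (y * t') = y * t := by
            rw [← ht']
            ring
          rw [mul_sub, h5, ← hc, pow_succ]
          ring
        exact sub_eq_zero.mp (c1 _ h4)
      obtain ⟨c', hc'⟩ := Ideal.mem_span_singleton'.mp
        (ih t' (Ideal.mem_span_singleton'.mpr ⟨c, h3.symm⟩))
      rw [Ideal.mem_span_singleton']
      refine ⟨c', ?_⟩
      rw [← ht', ← hc', pow_succ]
      ring
  intro i j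
  induction j with
  | zero =>
    intro t ht
    rwa [pow_zero, one_mul] at ht
  | succ j ih =>
    intro t ht
    apply h1 i
    apply ih
    rw [← mul_assoc, ← pow_succ]
    exact ht

/-- the local Hartogs computation -/
theorem hz_alg {O : Type u} [CommRing O] (x y : O) (c1 : ∀ t : O, x * t = 0 → t = 0)
    (c2 : ∀ t : O, y * t ∈ Ideal.span {x} → t ∈ Ideal.span {x}) (l m n : ℕ) (γ₁ γ₂ : O)
    (h : (x * y) ^ l * (γ₁ * y ^ m - γ₂ * x ^ n) = 0) : ∃ ε, γ₁ = x ^ n * ε := by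
  have h1 : y ^ l * (γ₁ * y ^ m - γ₂ * x ^ n) = 0 := pow_nzd x c1 l _ (by
    rw [← mul_assoc, ← mul_pow]
    exact h)
  have h2 : y ^ (l + m) * γ₁ ∈ Ideal.span {x ^ n} := by
    rw [Ideal.mem_span_singleton']
    refine ⟨y ^ l * γ₂, ?_⟩
    have h3 : y ^ (l + m) * γ₁ - y ^ l * γ₂ * x ^ n = y ^ l * (γ₁ * y ^ m - γ₂ * x ^ n) := by
      rw [pow_add]
      ring
    rw [h1] at h3
    exact (sub_eq_zero.mp h3).symm
  obtain ⟨ε, hε⟩ := Ideal.mem_span_singleton'.mp (pw_regular x y c1 c2 n (l + m) γ₁ h2)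
  exact ⟨ε, by rw [← hε]; ring⟩

/-- transfer of a regular pair (up to powers and units) from the fibre ring -/
theorem fibre_regular {O Φ : Type u} [CommRing O] [CommRing Φ] [IsDomain Φ] (Ψ : O →+* Φ)
    (hΨ : Function.Surjective Ψ) (J : Ideal O) (hJ : ∀ y : O, Ψ y = 0 ↔ y ∈ J)
    (φ₁ φ₂ : Φ) (hφ₁ : φ₁ ≠ 0)
    (hφ : ∀ y : Φ, φ₂ * y ∈ Ideal.span {φ₁} → y ∈ Ideal.span {φ₁})
    (α₁ α₂ : O) (N₁ N₂ : ℕ) (u₁ u₂ : Φ) (hu₁ : IsUnit u₁) (hu₂ : IsUnit u₂)
    (hα₁ : Ψ α₁ = φ₁ ^ N₁ * u₁) (hα₂ : Ψ α₂ = φ₂ ^ N₂ * u₂) :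
    (∀ y : O, α₁ * y ∈ J → y ∈ J) ∧
    (∀ y : O, α₂ * y ∈ J ⊔ Ideal.span {α₁} → y ∈ J ⊔ Ideal.span {α₁}) := by
  have hc1 : ∀ t : Φ, φ₁ * t = 0 → t = 0 := fun t ht => (mul_eq_zero.mp ht).resolve_left hφ₁
  constructor
  · intro y hy
    have h1 : Ψ (α₁ * y) = 0 := (hJ _).mpr hy
    rw [map_mul, hα₁] at h1
    have h2 : Ψ y = 0 := by
      rcases mul_eq_zero.mp h1 with h | h
      · rcases mul_eq_zero.mp h with h' | h'
        · exact absurd h' (pow_ne_zero _ hφ₁)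
        · exact absurd h' hu₁.ne_zero
      · exact h
    exact (hJ _).mp h2
  · intro y hy
    obtain ⟨j, hj, t, ht, hjt⟩ := Submodule.mem_sup.mp hy
    obtain ⟨c, rfl⟩ := Ideal.mem_span_singleton'.mp ht
    have h1 : Ψ α₂ * Ψ y = Ψ c * Ψ α₁ := by
      rw [← map_mul, ← map_mul, ← hjt, map_add, (hJ j).mpr hj, zero_add]
    rw [hα₁, hα₂] at h1
    have h2 : φ₂ ^ N₂ * (u₂ * Ψ y) ∈ Ideal.span {φ₁ ^ N₁} := by
      rw [Ideal.mem_span_singleton']
      refine ⟨Ψ c * u₁, ?_⟩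
      linear_combination (-1 : Φ) * h1
    obtain ⟨d, hd⟩ := Ideal.mem_span_singleton'.mp (pw_regular φ₁ φ₂ hc1 hφ N₁ N₂ _ h2)
    obtain ⟨v₁, rfl⟩ := hu₁
    obtain ⟨v₂, rfl⟩ := hu₂
    obtain ⟨d', hd'⟩ := hΨ (↑v₂⁻¹ * d * ↑v₁⁻¹)
    have e1 : (↑v₁⁻¹ : Φ) * ↑v₁ = 1 := Units.inv_mul v₁
    have e2 : (↑v₂⁻¹ : Φ) * ↑v₂ = 1 := Units.inv_mul v₂
    have h3 : Ψ (y - d' * α₁) = 0 := by
      rw [map_sub, map_mul, hd', hα₁, sub_eq_zero]
      calc Ψ y = (↑v₂⁻¹ * ↑v₂) * Ψ y := by rw [e2, one_mul]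
        _ = ↑v₂⁻¹ * (↑v₂ * Ψ y) := by ring
        _ = ↑v₂⁻¹ * (d * φ₁ ^ N₁) := by rw [hd]
        _ = ↑v₂⁻¹ * (d * φ₁ ^ N₁) * (↑v₁⁻¹ * ↑v₁) := by rw [e1, mul_one]
        _ = ↑v₂⁻¹ * d * ↑v₁⁻¹ * (φ₁ ^ N₁ * ↑v₁) := by ring
    exact Submodule.mem_sup.mpr ⟨y - d' * α₁, (hJ _).mp h3, d' * α₁,
      Ideal.mem_span_singleton'.mpr ⟨d', rfl⟩, by ring⟩

/-- at a minimal prime `q` over `𝔞`, every element of the maximal ideal of `B_q` has a power in
`𝔞 B_q` -/
theorem exists_pow_mem_map_of_minimalPrimes {B O : Type u} [CommRing B] [CommRing O] [Algebra B O]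
    (q : Ideal B) [q.IsPrime] [IsLocalization.AtPrime O q] [IsLocalRing O] (𝔞 : Ideal B)
    (hq : q ∈ 𝔞.minimalPrimes) (w : O) (hw : w ∈ maximalIdeal O) :
    ∃ N : ℕ, w ^ N ∈ 𝔞.map (algebraMap B O) := by
  have hrad : w ∈ (𝔞.map (algebraMap B O)).radical := by
    rw [Ideal.radical_eq_sInf, Ideal.mem_sInf]
    rintro 𝔭 ⟨h𝔭le, h𝔭prime⟩
    have h1 : 𝔞 ≤ 𝔭.comap (algebraMap B O) := Ideal.map_le_iff_le_comap.mp h𝔭le
    have h2 : 𝔭.comap (algebraMap B O) ≤ q := by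
      intro x hx
      have h3 : algebraMap B O x ∈ maximalIdeal O :=
        IsLocalRing.le_maximalIdeal h𝔭prime.ne_top (Ideal.mem_comap.mp hx)
      exact (IsLocalization.AtPrime.to_map_mem_maximal_iff O q x).mp h3
    have h3 : q ≤ 𝔭.comap (algebraMap B O) := hq.2 ⟨Ideal.comap_isPrime _ _, h1⟩ h2
    obtain ⟨⟨x, s⟩, hxs⟩ := IsLocalization.surj q.primeCompl w
    simp only at hxs
    have hx : x ∈ q := by
      rw [← IsLocalization.AtPrime.to_map_mem_maximal_iff O q x, ← hxs]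
      exact Ideal.mul_mem_right _ _ hw
    have h4 : algebraMap B O x ∈ 𝔭 := h3 hx
    rw [← hxs] at h4
    exact (Ideal.mul_unit_mem_iff_mem 𝔭 (IsLocalization.map_units O s)).mp h4
  exact hrad

section nzd

variable {A B : Type u} [CommRing A] [CommRing B] [Algebra A B] [Algebra.FinitePresentation A B]
  (q : Ideal B) [q.IsPrime]

omit [Algebra.FinitePresentation A B] in
theorem mem_smul_top_iff_mem_map (p : Ideal A) (z : B) :
    z ∈ p • (⊤ : Submodule A B) ↔ z ∈ p.map (algebraMap A B) := by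
  constructor
  · intro hz
    refine Submodule.smul_induction_on hz (fun a ha y _ => ?_) (fun x y hx hy => ?_)
    · rw [Algebra.smul_def]
      exact Ideal.mul_mem_right _ _ (Ideal.mem_map_of_mem _ ha)
    · exact Ideal.add_mem _ hx hy
  · intro hz
    refine (Groth.Agent.H1.FibInj.mem_map_smul_top_iff (B := B) _ z).mp ?_
    have h1 : z • (1 : B) ∈ p.map (algebraMap A B) • (⊤ : Submodule B B) :=
      Submodule.smul_mem_smul hz Submodule.mem_top
    have h2 : z • (1 : B) = z := by rw [smul_eq_mul, mul_one]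
    rwa [h2] at h1

/-- an element which is a nonzerodivisor on the fibre at `q` is a nonzerodivisor on all local
rings in a neighbourhood of `q` -/
theorem nzd_nhd [Module.Flat A B] (O : Type u) [CommRing O] [Algebra B O]
    [IsLocalization.AtPrime O q] (b₁ : B)
    (H1 : ∀ y : O, algebraMap B O b₁ * y ∈
        ((q.comap (algebraMap A B)).map (algebraMap A B)).map (algebraMap B O) →
      y ∈ ((q.comap (algebraMap A B)).map (algebraMap A B)).map (algebraMap B O)) :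
    ∃ g : B, g ∉ q ∧ ∀ (q' : Ideal B) [q'.IsPrime], g ∉ q' →
      ∀ x : B, b₁ * x = 0 → ∃ τ ∈ q'.primeCompl, τ * x = 0 := by
  have hunit : ∀ σ ∈ q.primeCompl, IsUnit (algebraMap B O σ) := fun σ hσ =>
    IsLocalization.map_units O (⟨σ, hσ⟩ : q.primeCompl)
  have F2 : ∀ (I' : Ideal B) (z : B), algebraMap B O z ∈ I'.map (algebraMap B O) ↔
      ∃ τ ∈ q.primeCompl, τ * z ∈ I' :=
    fun I' z => IsLocalization.algebraMap_mem_map_algebraMap_iff q.primeCompl O I' z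
  have hflat : Module.Flat A (LocalizedModule q.primeCompl B) :=
    Localization.flat (R := A) (S := B) q.primeCompl
  obtain ⟨hinj, hflat₂⟩ := Groth.Agent.H1.FibInj.fibInj_at_prime q (LinearMap.lsmul B B b₁) hflat
    (by
      rintro z ⟨σ, hσ, hmem⟩
      rw [LinearMap.lsmul_apply, mem_smul_top_iff_mem_map] at hmem
      have h2 : algebraMap B O σ * (algebraMap B O b₁ * algebraMap B O z) ∈
          ((q.comap (algebraMap A B)).map (algebraMap A B)).map (algebraMap B O) := by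
        rw [← map_mul, ← map_mul]
        exact Ideal.mem_map_of_mem _ hmem
      have h3 := H1 _ ((Ideal.unit_mul_mem_iff_mem _ (hunit σ hσ)).mp h2)
      obtain ⟨τ, hτ, h4⟩ := (F2 _ z).mp h3
      exact ⟨τ, hτ, (mem_smul_top_iff_mem_map _ _).mpr h4⟩)
  obtain ⟨g, hg, hgq'⟩ := Groth.Agent.H1.FibInj.exists_nhd_injective_flat (A := A)
    (LinearMap.lsmul B B b₁) q hinj hflat₂
  refine ⟨g, hg, fun q' _ hgq x hx => ?_⟩
  obtain ⟨τ, hτ, h⟩ := (hgq' q' hgq).1 x (by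
    rw [LinearMap.lsmul_apply, smul_eq_mul]
    exact hx)
  exact ⟨τ, hτ, h⟩

end nzd

theorem nzd_of_local {B O' : Type u} [CommRing B] [CommRing O'] [Algebra B O'] (q' : Ideal B)
    [q'.IsPrime] [IsLocalization.AtPrime O' q'] (b₁ : B)
    (h : ∀ x : B, b₁ * x = 0 → ∃ τ ∈ q'.primeCompl, τ * x = 0) :
    ∀ w : O', algebraMap B O' b₁ * w = 0 → w = 0 := by
  intro y hy
  obtain ⟨⟨z, s⟩, hzs⟩ := IsLocalization.surj q'.primeCompl y
  simp only at hzs
  have hus : IsUnit (algebraMap B O' s) := IsLocalization.map_units O' s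
  have h1 : algebraMap B O' (b₁ * z) = 0 := by
    rw [map_mul, ← hzs, ← mul_assoc, hy, zero_mul]
  obtain ⟨t, ht⟩ := (IsLocalization.map_eq_zero_iff q'.primeCompl O' _).mp h1
  obtain ⟨τ, hτ, h2⟩ := h ((t : B) * z) (by
    rw [← ht]
    ring)
  have h3 : algebraMap B O' z = 0 := by
    refine (IsLocalization.map_eq_zero_iff q'.primeCompl O' _).mpr ⟨⟨τ, hτ⟩ * t, ?_⟩
    rw [Submonoid.coe_mul, mul_assoc]
    exact h2
  rw [h3] at hzs
  exact hus.mul_left_eq_zero.mp hzs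

end Groth.Agent.H8.FibDepth2
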