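import Mathlib
import Groth.Prelude.Def_CInt
import Groth.Prelude.Def_CAlg
import Groth.Agent.Lib.Helper1.FibreStalk
import Groth.Agent.Lib.Helper8.SmoothNormal
import Groth.Agent.Lib.Helper8.BigOpen.Geom
import Groth.Agent.Lib.Helper8.FibDepth2.Alg

/-!
# Depth ≥ 2 at points of fibre dimension ≥ 2 of a smooth geometrically irreducible morphism
(helper8; S16423)
-/

set_option autoImplicit false
universe u
open CategoryTheory CategoryTheory.Limits AlgebraicGeometry TopologicalSpace IsLocalRing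

namespace Groth.Agent.H8.FibDepth2

open Groth.Agent.H8.BigOpen

/-- The local rings of the fibres of a smooth geometrically irreducible morphism are Noetherian
integrally closed domains. -/
theorem fiberStalk_props {P S : Scheme.{u}} (π : P ⟶ S) [Smooth π] [GeometricallyIrreducible π]
    (x : P) :
    IsDomain ↑(CInt.fiberStalk π x) ∧ IsNoetherianRing ↑(CInt.fiberStalk π x) ∧
      IsIntegrallyClosed ↑(CInt.fiberStalk π x) := by
  let F : Scheme.{u} := π.fiber (π x)
  let g : F ⟶ Spec (S.residueField (π x)) := π.fiberToSpecResidueField (π x)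
  haveI : Smooth g := inferInstanceAs (Smooth (pullback.snd π (S.fromSpecResidueField (π x))))
  haveI : IrreducibleSpace F := inferInstanceAs (IrreducibleSpace (π.fiber (π x)))
  haveI : IsReduced F := Groth.Agent.H8.EtTors.isReduced_of_smooth g
  haveI : IsIntegral F := isIntegral_of_irreducibleSpace_of_isReduced F
  haveI : IsLocallyNoetherian F := LocallyOfFiniteType.isLocallyNoetherian g
  have h1 : IsDomain (F.presheaf.stalk (π.asFiber x)) := inferInstance
  have h2 : IsNoetherianRing (F.presheaf.stalk (π.asFiber x)) := inferInstance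
  have h3 : IsIntegrallyClosed (F.presheaf.stalk (π.asFiber x)) :=
    Groth.Agent.H8.SmoothNormal.isIntegrallyClosed_stalk_of_smooth_field (S.residueField (π x)) F g
      (π.asFiber x)
  exact ⟨h1, h2, h3⟩

/-- The ideal `𝔪_s 𝒪_{P,x}` in terms of affine charts. -/
theorem Jid_eq_map {P S : Scheme.{u}} (π : P ⟶ S) (x : P) (W : S.Opens) (hW : IsAffineOpen W)
    (U : P.Opens) (hU : IsAffineOpen U) (hxU : x ∈ U) (e : U ≤ π ⁻¹ᵁ W) :
    Jid π x = Ideal.map (P.presheaf.germ U x hxU).hom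
      (Ideal.map (π.appLE W U e).hom
        (Ideal.comap (π.appLE W U e).hom (hU.primeIdealOf ⟨x, hxU⟩).asIdeal)) := by
  have hsW : π x ∈ W := e hxU
  have hcompat : ∀ r : Γ(S, W), (π.stalkMap x).hom ((S.presheaf.germ W (π x) hsW).hom r) =
      (P.presheaf.germ U x hxU).hom ((π.appLE W U e).hom r) := by
    intro r
    rw [Scheme.Hom.germ_stalkMap_apply π W x hsW r]
    have h1 : (π.appLE W U e).hom r =
        (P.presheaf.map (homOfLE e).op).hom ((π.app W).hom r) := rfl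
    rw [h1]
    exact (TopCat.Presheaf.germ_res_apply P.presheaf (homOfLE e) x hxU _).symm
  letI algP := TopCat.Presheaf.algebra_section_stalk P.presheaf (⟨x, hxU⟩ : U)
  haveI locP : IsLocalization.AtPrime (P.presheaf.stalk x)
      (hU.primeIdealOf ⟨x, hxU⟩).asIdeal := hU.isLocalization_stalk ⟨x, hxU⟩
  letI algS := TopCat.Presheaf.algebra_section_stalk S.presheaf (⟨π x, hsW⟩ : W)
  haveI locS : IsLocalization.AtPrime (S.presheaf.stalk (π x))
      (hW.primeIdealOf ⟨π x, hsW⟩).asIdeal := hW.isLocalization_stalk ⟨π x, hsW⟩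
  have hmemq : ∀ b : Γ(P, U),
      (P.presheaf.germ U x hxU).hom b ∈ maximalIdeal (P.presheaf.stalk x) ↔
        b ∈ (hU.primeIdealOf ⟨x, hxU⟩).asIdeal := fun b =>
    IsLocalization.AtPrime.to_map_mem_maximal_iff (P.presheaf.stalk x) _ b
  have hmemp : ∀ r : Γ(S, W),
      (S.presheaf.germ W (π x) hsW).hom r ∈ maximalIdeal (S.presheaf.stalk (π x)) ↔
        r ∈ (hW.primeIdealOf ⟨π x, hsW⟩).asIdeal := fun r =>
    IsLocalization.AtPrime.to_map_mem_maximal_iff (S.presheaf.stalk (π x)) _ r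
  have hloc : ∀ w : S.presheaf.stalk (π x),
      (π.stalkMap x).hom w ∈ maximalIdeal (P.presheaf.stalk x) ↔
        w ∈ maximalIdeal (S.presheaf.stalk (π x)) := fun w => by
    rw [IsLocalRing.mem_maximalIdeal, IsLocalRing.mem_maximalIdeal, mem_nonunits_iff,
      mem_nonunits_iff, isUnit_map_iff]
  have hrp : ∀ r : Γ(S, W), r ∈ (hW.primeIdealOf ⟨π x, hsW⟩).asIdeal ↔
      (π.appLE W U e).hom r ∈ (hU.primeIdealOf ⟨x, hxU⟩).asIdeal := fun r => by
    rw [← hmemp, ← hloc, hcompat, hmemq]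
  apply le_antisymm
  · unfold Jid
    rw [Ideal.map_le_iff_le_comap]
    intro w hw
    obtain ⟨⟨r, v⟩, hrv⟩ := IsLocalization.surj (hW.primeIdealOf ⟨π x, hsW⟩).asIdeal.primeCompl w
    have hrv' : w * (S.presheaf.germ W (π x) hsW).hom v =
        (S.presheaf.germ W (π x) hsW).hom r := hrv
    have hr : r ∈ (hW.primeIdealOf ⟨π x, hsW⟩).asIdeal := by
      rw [← hmemp, ← hrv']
      exact Ideal.mul_mem_right _ _ hw
    have hvu : IsUnit ((S.presheaf.germ W (π x) hsW).hom v) :=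
      IsLocalization.map_units (S.presheaf.stalk (π x)) v
    rw [Ideal.mem_comap]
    have h2 := congrArg (π.stalkMap x).hom hrv'
    rw [map_mul, hcompat r] at h2
    rw [← Ideal.mul_unit_mem_iff_mem _ (hvu.map (π.stalkMap x).hom), h2]
    exact Ideal.mem_map_of_mem _ (Ideal.mem_map_of_mem _ (Ideal.mem_comap.mpr ((hrp r).mp hr)))
  · rw [Ideal.map_le_iff_le_comap, Ideal.map_le_iff_le_comap]
    intro r hr
    rw [Ideal.mem_comap, Ideal.mem_comap, ← hcompat]
    refine Ideal.mem_map_of_mem _ ?_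
    rw [hmemp, hrp]
    exact hr

/-- **Depth ≥ 2 at points where the fibre has dimension ≥ 2**, for a smooth geometrically
irreducible morphism (no Noetherian hypothesis on the base). -/
theorem main_aux {P S : Scheme.{u}} (π : P ⟶ S) [Smooth π] [GeometricallyIrreducible π] (x : P)
    (hx : (2 : WithBot ℕ∞) ≤ ringKrullDim ↑(CInt.fiberStalk π x)) :
    (2 : ℕ∞) ≤ LocCoh.depth ↑(P.presheaf.stalk x) ↑(P.presheaf.stalk x) := by
  obtain ⟨hdom, hnoeth, hnormal⟩ := fiberStalk_props π x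
  obtain ⟨φ₁, φ₂, hφ₁m, hφ₂m, hφ₁0, hφ⟩ := exists_regular_pair ↑(CInt.fiberStalk π x) hx
  obtain ⟨W, hW, hsW, -⟩ := exists_isAffineOpen_mem_and_subset (x := π x) (U := ⊤) trivial
  obtain ⟨_, ⟨U, hU, rfl⟩, hxU, e⟩ := P.isBasis_affineOpens.exists_subset_of_mem_open
    (show x ∈ ((π ⁻¹ᵁ W : P.Opens) : Set P) from hsW) (π ⁻¹ᵁ W).isOpen
  have e' : U ≤ π ⁻¹ᵁ W := e
  have hfp : (π.appLE W U e').hom.FinitePresentation := π.finitePresentation_appLE hW hU e'
  have hfl : (π.appLE W U e').hom.Flat := π.flat_appLE hW hU e'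
  letI algAB : Algebra Γ(S, W) Γ(P, U) := (π.appLE W U e').hom.toAlgebra
  haveI : Algebra.FinitePresentation Γ(S, W) Γ(P, U) := hfp
  haveI : Module.Flat Γ(S, W) Γ(P, U) := hfl
  letI algP := TopCat.Presheaf.algebra_section_stalk P.presheaf (⟨x, hxU⟩ : U)
  haveI locP : IsLocalization.AtPrime (P.presheaf.stalk x)
      (hU.primeIdealOf ⟨x, hxU⟩).asIdeal := hU.isLocalization_stalk ⟨x, hxU⟩
  let J : Ideal (P.presheaf.stalk x) :=
    (maximalIdeal (S.presheaf.stalk (π x))).map (π.stalkMap x).hom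
  have hJ : J = (((hU.primeIdealOf ⟨x, hxU⟩).asIdeal.comap (algebraMap Γ(S, W) Γ(P, U))).map
      (algebraMap Γ(S, W) Γ(P, U))).map (algebraMap Γ(P, U) (P.presheaf.stalk x)) :=
    Jid_eq_map π x W hW U hU hxU e'
  let eF : (P.presheaf.stalk x ⧸ J) ≃+* ↑(CInt.fiberStalk π x) :=
    Groth.Agent.H1.FibreStalk.fiberStalkEquiv π x
  obtain ⟨G₁, hG₁⟩ := Ideal.Quotient.mk_surjective (eF.symm φ₁)
  obtain ⟨G₂, hG₂⟩ := Ideal.Quotient.mk_surjective (eF.symm φ₂)
  have hG₁' : eF (Ideal.Quotient.mk J G₁) = φ₁ := by rw [hG₁, RingEquiv.apply_symm_apply]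
  have hG₂' : eF (Ideal.Quotient.mk J G₂) = φ₂ := by rw [hG₂, RingEquiv.apply_symm_apply]
  have hnonunit : ∀ (G : P.presheaf.stalk x) (φ' : ↑(CInt.fiberStalk π x)),
      eF (Ideal.Quotient.mk J G) = φ' → φ' ∈ maximalIdeal ↑(CInt.fiberStalk π x) →
        G ∈ maximalIdeal (P.presheaf.stalk x) := by
    intro G φ' h1 h2
    rw [IsLocalRing.mem_maximalIdeal, mem_nonunits_iff] at h2 ⊢
    intro hu
    apply h2
    rw [← h1]
    exact (hu.map (Ideal.Quotient.mk J)).map eF
  have H1 : ∀ y, G₁ * y ∈ J → y ∈ J := by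
    intro y hy
    have h1 : eF (Ideal.Quotient.mk J (G₁ * y)) = 0 := by
      rw [Ideal.Quotient.eq_zero_iff_mem.mpr hy, map_zero]
    rw [map_mul, map_mul, hG₁'] at h1
    have h2 := (mul_eq_zero.mp h1).resolve_left hφ₁0
    have h3 : Ideal.Quotient.mk J y = 0 := eF.injective (h2.trans (map_zero eF).symm)
    exact Ideal.Quotient.eq_zero_iff_mem.mp h3
  have H2 : ∀ y, G₂ * y ∈ J ⊔ Ideal.span {G₁} → y ∈ J ⊔ Ideal.span {G₁} := by
    intro y hy
    obtain ⟨j, hj, t, ht, hjt⟩ := Submodule.mem_sup.mp hy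
    obtain ⟨c, rfl⟩ := Ideal.mem_span_singleton'.mp ht
    have h1 : φ₂ * eF (Ideal.Quotient.mk J y) = eF (Ideal.Quotient.mk J c) * φ₁ := by
      rw [← hG₂', ← hG₁', ← map_mul, ← map_mul, ← map_mul, ← map_mul]
      congr 1
      rw [← hjt, map_add, Ideal.Quotient.eq_zero_iff_mem.mpr hj, zero_add]
    have h2 := hφ _ (Ideal.mem_span_singleton'.mpr ⟨_, h1.symm⟩)
    obtain ⟨d, hd⟩ := Ideal.mem_span_singleton'.mp h2
    obtain ⟨d', hd'⟩ := Ideal.Quotient.mk_surjective (eF.symm d)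
    have h3 : Ideal.Quotient.mk J y = Ideal.Quotient.mk J (d' * G₁) := by
      apply eF.injective
      rw [map_mul, map_mul, hG₁', hd', RingEquiv.apply_symm_apply, hd]
    rw [Ideal.Quotient.eq] at h3
    exact Submodule.mem_sup.mpr ⟨y - d' * G₁, h3, d' * G₁,
      Ideal.mem_span_singleton'.mpr ⟨d', rfl⟩, by ring⟩
  have key := lift_regular (A := Γ(S, W)) (B := Γ(P, U)) (hU.primeIdealOf ⟨x, hxU⟩).asIdeal
    (P.presheaf.stalk x) G₁ G₂ (by rw [← hJ]; exact H1) (by rw [← hJ]; exact H2)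
  exact depth_ge_two _ G₁ G₂ (hnonunit G₁ φ₁ hG₁' hφ₁m) (hnonunit G₂ φ₂ hG₂' hφ₂m) key.1 key.2

theorem main (k : Type u) [Field k] (X S : Scheme.{u})
    (a : X ⟶ Spec (CommRingCat.of k)) (b : S ⟶ Spec (CommRingCat.of k))
    [Smooth a] [GeometricallyIrreducible a]
    (x : ↥(pullback a b))
    (hx : (2 : WithBot ℕ∞) ≤ ringKrullDim ↑(CInt.fiberStalk (pullback.snd a b) x)) :
    (2 : ℕ∞) ≤ LocCoh.depth ↑((pullback a b).presheaf.stalk x)
      ↑((pullback a b).presheaf.stalk x) :=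
  main_aux (pullback.snd a b) x hx

end Groth.Agent.H8.FibDepth2
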