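import Mathlib
import Groth.Prelude.Def_CInt
import Groth.Prelude.Def_ExtPow2
import Groth.Prelude.Def_RefHull
import Groth.Agent.Lib.Helper8.FibDepth2.Geom
import Groth.Agent.Lib.Helper2.RefSch8
import Groth.Agent.Lib.Helper2.ExtPowQC
import Groth.Agent.Lib.Helper6.HomKer
import Groth.Agent.Lib.Lead.QC.LocFree2

/-!
# The determinant (double dual of the top exterior power) of a family which is locally free on a
big open is the direct image of its restriction (helper8; S16429)
-/

set_option autoImplicit false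
set_option linter.style.haveILetI false
universe u
open CategoryTheory CategoryTheory.Limits AlgebraicGeometry TopologicalSpace IsLocalRing Opposite

namespace Groth.Agent.H8.DetHull
open Groth.Agent.LD.QC

attribute [-instance] Groth.Agent.LD.QC.stalkModule

/-- the double dual of a coherent module has depth at least two where the local ring has. -/
theorem two_le_depth_ddual {P : Scheme.{u}} [IsLocallyNoetherian P] (L : P.Modules)
    (hL : Coh.IsCoh L) (x : P)
    (hR : (2 : ℕ∞) ≤ LocCoh.depth ↑(P.presheaf.stalk x) ↑(P.presheaf.stalk x)) :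
    (2 : ℕ∞) ≤ LocCoh.depth (P.presheaf.stalk x) ((RefHull.ddual L).presheaf.stalk x) := by
  have hDual := Groth.Agent.H2.HomSh.isCoh_dual hL
  have hDP : (RefHull.dual L).IsFinitePresentation :=
    isFinitePresentation_of_qc_ft _ hDual.1 hDual.2
  haveI : Module.Finite (P.presheaf.stalk x) ((RefHull.dual L).presheaf.stalk x) :=
    Groth.Agent.H1.CohLen.finite_stalk _ hDual.2 x
  haveI : Module.Finite (P.presheaf.stalk x) ((Coh.structureModule P).presheaf.stalk x) :=
    Module.Finite.equiv (Groth.Agent.H2.HomSh.unitStalkEquiv x)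
  let E₁ : (RefHull.ddual L).presheaf.stalk x ≃ₗ[P.presheaf.stalk x]
      RefHull.StalkHom (RefHull.dual L) (Coh.structureModule P) x :=
    LinearEquiv.ofBijective (RefHull.evalStalk _ _ x)
      (Groth.Agent.H2.HomSh.evalStalk_bijective hDP x)
  unfold LocCoh.depth at hR ⊢
  rw [Groth.Agent.H6.HomKer.idealDepth_congr _ E₁]
  have h2 : (2 : ℕ∞) ≤ LocCoh.idealDepth (maximalIdeal (P.presheaf.stalk x))
      ((Coh.structureModule P).presheaf.stalk x) := by
    rw [← Groth.Agent.H6.HomKer.idealDepth_congr _ (Groth.Agent.H2.HomSh.unitStalkEquiv x)]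
    exact hR
  exact (Groth.Agent.H6.HomKer.idealDepth_hom (maximalIdeal (P.presheaf.stalk x))
    ((RefHull.dual L).presheaf.stalk x) ((Coh.structureModule P).presheaf.stalk x)).2 h2

/-- an exterior power of a module free near `y` is reflexive at `y`. -/
theorem isReflexiveAt_of_extPow {P : Scheme.{u}} (F L : P.Modules) [F.IsQuasicoherent]
    [L.IsQuasicoherent] (h : ℕ) (hL : ExtPow.IsExtPow h F L) (V : P.Opens) (n : ℕ)
    (e : F.restrict V.ι ≅ freeMod V n) (y : P) (hy : y ∈ V) :
    RefHull.IsReflexiveAt L y := by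
  obtain ⟨φ, -⟩ := hL
  obtain ⟨W, hW, hyW, hWV⟩ := exists_isAffineOpen_mem_and_subset (x := y) (U := V) hy
  have hr : Set.range hW.fromSpec ⊆ Set.range V.ι := by
    rw [hW.range_fromSpec, Scheme.Opens.range_ι]; exact hWV
  have h1 := freeMod_of_range_subset F V.ι hW.fromSpec hr n e
  obtain ⟨ℓ⟩ := (restrict_fromSpec_iso_freeMod_iff F hW n).mp h1
  haveI : Module.Free Γ(P, W) Γ(F, W) := Module.Free.of_equiv ℓ.symm
  haveI : Module.Finite Γ(P, W) Γ(F, W) := Module.Finite.equiv ℓ.symm
  have h2 : Module.Finite Γ(P, W) ↥(⋀[Γ(P, W)]^h Γ(F, W)) := exteriorPower.instFinite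
  have h3 : Module.Free Γ(P, W) ↥(⋀[Γ(P, W)]^h Γ(F, W)) := exteriorPower.instFree _ _
  have hfin : Module.Finite Γ(P, W) Γ(L, W) :=
    @Module.Finite.equiv Γ(P, W) ↥(⋀[Γ(P, W)]^h Γ(F, W)) Γ(L, W) _ _ _ _ _ h2 (φ ⟨W, hW⟩).symm
  have hfree : Module.Free Γ(P, W) Γ(L, W) :=
    Module.Free.of_equiv' h3 (φ ⟨W, hW⟩).symm
  haveI := free_stalk_of_free_sections L hW y hyW hfree
  haveI := finite_stalk_of_finite_sections L hW y hyW hfin
  unfold RefHull.IsReflexiveAt
  infer_instance

theorem main (k : Type u) [Field k] (X S : Scheme.{u})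
    (a : X ⟶ Spec (CommRingCat.of k)) (b : S ⟶ Spec (CommRingCat.of k))
    [Smooth a] [IsProper a] [GeometricallyIrreducible a] [IsLocallyNoetherian S]
    (F : (pullback a b).Modules) (hfp : CohB1.IsFP F)
    (h : ℕ) (U : (pullback a b).Opens)
    (hU : ∀ x : ↥(pullback a b), x ∉ U →
      (2 : WithBot ℕ∞) ≤ ringKrullDim ↑(CInt.fiberStalk (pullback.snd a b) x))
    (hFU : FlatMod.IsFinLocFreeOfRank h (F.restrict U.ι))
    (L : (pullback a b).Modules) (hL : ExtPow.IsExtPow h F L) :
    IsIso ((Scheme.Modules.restrictAdjunction U.ι).unit.app (RefHull.ddual L)) ∧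
      IsIso ((Scheme.Modules.restrictFunctor U.ι).map (RefHull.bidualMap L)) := by
  haveI : IsLocallyNoetherian (pullback a b) :=
    LocallyOfFiniteType.isLocallyNoetherian (pullback.snd a b)
  haveI : F.IsFinitePresentation := hfp
  have hFcoh : Coh.IsCoh F := ⟨inferInstance, inferInstance⟩
  haveI : F.IsQuasicoherent := hFcoh.1
  have hLcoh : Coh.IsCoh L := Groth.Agent.H2.EPL.isCoh_of_isExtPow F L h hFcoh hL
  haveI : L.IsQuasicoherent := hLcoh.1
  have hD := Groth.Agent.H2.HomSh.isCoh_ddual hLcoh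
  haveI : (RefHull.ddual L).IsQuasicoherent := hD.1
  have hdepth : ∀ x : ↥(pullback a b), x ∉ U →
      (2 : ℕ∞) ≤ LocCoh.depth ((pullback a b).presheaf.stalk x)
        ((RefHull.ddual L).presheaf.stalk x) := fun x hx =>
    two_le_depth_ddual L hLcoh x (Groth.Agent.H8.FibDepth2.main k X S a b x (hU x hx))
  have h1 := Groth.Agent.H1.Depth2Coh.isIso_unit (RefHull.ddual L) hD U hdepth
  refine ⟨h1, ?_⟩
  have hrefl : ∀ y ∈ U, RefHull.IsReflexiveAt L y := by
    intro y hy
    have hFU' : FlatMod.IsFinLocFree (F.restrict U.ι) := fun x => by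
      obtain ⟨W, hxW, e⟩ := hFU x
      exact ⟨W, h, hxW, e⟩
    obtain ⟨V, n, hyV, ⟨e⟩⟩ := (isFinLocFree_restrict_iff F U.ι).mp hFU' ⟨y, hy⟩
    exact isReflexiveAt_of_extPow F L h hL V n e y hyV
  have hb : ∀ y ∈ U, Function.Bijective (RefHull.stalkMapₗ (RefHull.bidualMap L) y) :=
    fun y hy => (Groth.Agent.H2.HomSh.stalkMap_bidualMap_bijective_iff hLcoh y).mpr (hrefl y hy)
  haveI := Groth.Agent.H2.FComplZero.mono_restrict_of_stalks (RefHull.bidualMap L) U
    (fun y hy => (Groth.Agent.H2.IsoLocus.injective_iff _ y).mp (hb y hy).1)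
  haveI := Groth.Agent.H2.FComplZero.epi_restrict_of_stalks (RefHull.bidualMap L) U
    (fun y hy => (Groth.Agent.H2.IsoLocus.surjective_iff _ hLcoh.1 hD.1 y).mp (hb y hy).2)
  exact isIso_of_mono_of_epi _

end Groth.Agent.H8.DetHull
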