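import Mathlib
import Groth.Prelude.Def_CInt
import Groth.Agent.Lib.Helper8.FibDepth2.Geom
import Groth.Agent.Lib.Helper8.FibDepth2.Alg2

/-!
# Relative Hartogs lemma for smooth geometrically irreducible morphisms (helper8; S16427)

For `π : P ⟶ S` smooth and geometrically irreducible and `U ⊆ P` an open subset which is
schematically dense in every open and whose complement has fibrewise codimension `≥ 2`,
functions on `V ∩ U` extend to `V` for small affine opens `V` (no Noetherian hypothesis on `S`).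
-/

set_option autoImplicit false
universe u
open CategoryTheory CategoryTheory.Limits AlgebraicGeometry TopologicalSpace IsLocalRing

namespace Groth.Agent.H8.FibDepth2

open Groth.Agent.H8.BigOpen Groth.Agent.H8.NormNormal

theorem exists_pow_mul_germ_eq_zero {X : Scheme.{u}} (O' V : X.Opens) (hO : O' ≤ V) (a : Γ(X, V))
    (δ : Γ(X, O')) (hδ : ∀ (v : X) (hv : v ∈ O'), v ∈ X.basicOpen a → gm O' v hv δ = 0)
    (y : X) (hy : y ∈ O') : ∃ k : ℕ, (gm V y (hO hy) a) ^ k * gm O' y hy δ = 0 := by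
  obtain ⟨_, ⟨N', hN', rfl⟩, hyN', hN'O⟩ :=
    X.isBasis_affineOpens.exists_subset_of_mem_open hy O'.isOpen
  have hN'O' : N' ≤ O' := hN'O
  have H : X.presheaf.map (homOfLE (X.basicOpen_le
      (X.presheaf.map (homOfLE (hN'O'.trans hO)).op a))).op
        (X.presheaf.map (homOfLE hN'O').op δ) = 0 := by
    refine sec_ext _ _ fun v hv => ?_
    have hv' : v ∈ N' ⊓ X.basicOpen a := by
      rw [← X.basicOpen_res a (homOfLE (hN'O'.trans hO)).op]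
      exact hv
    rw [map_zero]
    exact (gm_res (homOfLE (X.basicOpen_le _)) v hv _).trans
      ((gm_res (homOfLE hN'O') v hv'.1 δ).trans (hδ v (hN'O' hv'.1) hv'.2))
  obtain ⟨k, hk⟩ := exists_pow_mul_eq_zero_of_res_basicOpen_eq_zero_of_isAffineOpen X hN' _ _ H
  refine ⟨k, ?_⟩
  have h1 := congrArg (gm N' y hyN') hk
  rw [map_mul, map_pow, map_zero] at h1
  rw [← gm_res (homOfLE (hN'O'.trans hO)) y hyN' a, ← gm_res (homOfLE hN'O') y hyN' δ]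
  exact h1

theorem mem_basicOpen_iff_not_mem_prime {P : Scheme.{u}} {V : P.Opens} (hV : IsAffineOpen V)
    (b : Γ(P, V)) (y : P) (hy : y ∈ V) :
    y ∈ P.basicOpen b ↔ b ∉ (hV.primeIdealOf ⟨y, hy⟩).asIdeal := by
  letI := TopCat.Presheaf.algebra_section_stalk P.presheaf (⟨y, hy⟩ : V)
  haveI : IsLocalization.AtPrime (P.presheaf.stalk y) (hV.primeIdealOf ⟨y, hy⟩).asIdeal :=
    hV.isLocalization_stalk ⟨y, hy⟩
  rw [Scheme.mem_basicOpen P b y hy]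
  exact IsLocalization.AtPrime.isUnit_to_map_iff (P.presheaf.stalk y)
    (hV.primeIdealOf ⟨y, hy⟩).asIdeal b

/-- `f` extends to a neighbourhood of `y` -/
def ExtAt {P : Scheme.{u}} (V W₂ : P.Opens) (f : Γ(P, W₂)) (y : P) : Prop :=
  ∃ (N : P.Opens) (_ : N ≤ V) (_ : y ∈ N) (e : Γ(P, N)),
    ∀ (y' : P) (h1 : y' ∈ N) (h2 : y' ∈ W₂), gm N y' h1 e = gm W₂ y' h2 f

theorem dens {P : Scheme.{u}} (U : P.Opens) (hdense : CInt.IsSchematicallyDense U)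
    (O' : P.Opens) (s₁ s₂ : Γ(P, O'))
    (h : ∀ (y : P) (hy : y ∈ O'), y ∈ U → gm O' y hy s₁ = gm O' y hy s₂) : s₁ = s₂ := by
  apply hdense O'
  refine sec_ext _ _ fun v hv => ?_
  exact (gm_res (homOfLE (inf_le_left : O' ⊓ U ≤ O')) v hv s₁).trans
    ((h v hv.1 hv.2).trans (gm_res (homOfLE (inf_le_left : O' ⊓ U ≤ O')) v hv s₂).symm)

theorem glue_ext {P : Scheme.{u}} (U : P.Opens) (hdense : CInt.IsSchematicallyDense U)
    (V W₂ : P.Opens) (h₂ : V ⊓ U ≤ W₂) (f : Γ(P, W₂)) (T : P.Opens)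
    (hall : ∀ y ∈ T, ExtAt V W₂ f y) :
    ∃ eT : Γ(P, T), ∀ (y' : P) (h1 : y' ∈ T) (h2 : y' ∈ W₂),
      gm T y' h1 eT = gm W₂ y' h2 f := by
  choose N hNV hyN e he using hall
  have hloc : ∀ (v : P) (hv : v ∈ T), ∃ (U' : P.Opens) (hU' : U' ≤ T) (_ : v ∈ U')
      (s : Γ(P, U')), ∀ (w : P) (hw : w ∈ U'),
        gm U' w hw s = gm (N w (hU' hw)) w (hyN w (hU' hw)) (e w (hU' hw)) := by
    intro v hv
    refine ⟨N v hv ⊓ T, inf_le_right, ⟨hyN v hv, hv⟩,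
      P.presheaf.map (homOfLE (inf_le_left : N v hv ⊓ T ≤ N v hv)).op (e v hv), ?_⟩
    intro w hw
    have key : P.presheaf.map (homOfLE (inf_le_left : N v hv ⊓ N w hw.2 ≤ N v hv)).op (e v hv) =
        P.presheaf.map (homOfLE (inf_le_right : N v hv ⊓ N w hw.2 ≤ N w hw.2)).op
          (e w hw.2) := by
      refine dens U hdense _ _ _ fun y hy hyU => ?_
      have hyW₂ : y ∈ W₂ := h₂ ⟨hNV v hv hy.1, hyU⟩
      exact (gm_res (homOfLE inf_le_left) y hy (e v hv)).trans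
        ((he v hv y hy.1 hyW₂).trans ((he w hw.2 y hy.2 hyW₂).symm.trans
          (gm_res (homOfLE inf_le_right) y hy (e w hw.2)).symm))
    have h1 := congrArg (gm (N v hv ⊓ N w hw.2) w ⟨hw.1, hyN w hw.2⟩) key
    exact (gm_res (homOfLE inf_le_left) w hw (e v hv)).trans
      ((gm_res (homOfLE inf_le_left) w ⟨hw.1, hyN w hw.2⟩ (e v hv)).symm.trans
        (h1.trans (gm_res (homOfLE inf_le_right) w ⟨hw.1, hyN w hw.2⟩ (e w hw.2))))
  obtain ⟨σ, hσ⟩ := exists_section_of_germs T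
    (fun v hv => gm (N v hv) v (hyN v hv) (e v hv)) hloc
  refine ⟨σ, fun y' h1 h2 => ?_⟩
  rw [hσ y' h1]
  exact he y' h1 y' (hyN y' h1) h2

set_option maxHeartbeats 1600000 in
theorem key_step {P S : Scheme.{u}} (π : P ⟶ S) [Smooth π] [GeometricallyIrreducible π]
    (U : P.Opens) (hdense : CInt.IsSchematicallyDense U)
    (V : P.Opens) (hV : IsAffineOpen V) (W : S.Opens) (hW : IsAffineOpen W) (hVW : V ≤ π ⁻¹ᵁ W)
    (W₂ : P.Opens) (h₁ : W₂ ≤ V) (h₂ : V ⊓ U ≤ W₂) (f : Γ(P, W₂))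
    (z : P) (hzV : z ∈ V)
    (hz2 : (2 : WithBot ℕ∞) ≤ ringKrullDim ↑(CInt.fiberStalk π z))
    (𝔞 : Ideal Γ(P, V)) (hmin : (hV.primeIdealOf ⟨z, hzV⟩).asIdeal ∈ 𝔞.minimalPrimes)
    (hgood : ∀ b ∈ 𝔞, ∀ y ∈ P.basicOpen b, ExtAt V W₂ f y) :
    ExtAt V W₂ f z := by
  obtain ⟨hdom, hnoeth, hnormal⟩ := fiberStalk_props π z
  obtain ⟨φ₁, φ₂, hφ₁m, hφ₂m, hφ₁0, hφ⟩ := exists_regular_pair ↑(CInt.fiberStalk π z) hz2
  have hfp : (π.appLE W V hVW).hom.FinitePresentation := π.finitePresentation_appLE hW hV hVW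
  have hfl : (π.appLE W V hVW).hom.Flat := π.flat_appLE hW hV hVW
  letI algAB : Algebra Γ(S, W) Γ(P, V) := (π.appLE W V hVW).hom.toAlgebra
  haveI : Algebra.FinitePresentation Γ(S, W) Γ(P, V) := hfp
  haveI : Module.Flat Γ(S, W) Γ(P, V) := hfl
  letI algP := TopCat.Presheaf.algebra_section_stalk P.presheaf (⟨z, hzV⟩ : V)
  haveI locP : IsLocalization.AtPrime (P.presheaf.stalk z)
      (hV.primeIdealOf ⟨z, hzV⟩).asIdeal := hV.isLocalization_stalk ⟨z, hzV⟩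
  let J : Ideal (P.presheaf.stalk z) :=
    (maximalIdeal (S.presheaf.stalk (π z))).map (π.stalkMap z).hom
  have hJ : J = ((((hV.primeIdealOf ⟨z, hzV⟩).asIdeal).comap
      (algebraMap Γ(S, W) Γ(P, V))).map (algebraMap Γ(S, W) Γ(P, V))).map
        (algebraMap Γ(P, V) (P.presheaf.stalk z)) := Jid_eq_map π z W hW V hV hzV hVW
  let eF : (P.presheaf.stalk z ⧸ J) ≃+* ↑(CInt.fiberStalk π z) :=
    Groth.Agent.H1.FibreStalk.fiberStalkEquiv π z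
  let Ψ : P.presheaf.stalk z →+* ↑(CInt.fiberStalk π z) :=
    (eF : (P.presheaf.stalk z ⧸ J) →+* ↑(CInt.fiberStalk π z)).comp (Ideal.Quotient.mk J)
  have hΨsurj : Function.Surjective Ψ := eF.surjective.comp Ideal.Quotient.mk_surjective
  have hΨJ : ∀ y, Ψ y = 0 ↔ y ∈ J := by
    intro y
    change eF (Ideal.Quotient.mk J y) = 0 ↔ _
    rw [map_eq_zero_iff eF eF.injective, Ideal.Quotient.eq_zero_iff_mem]
  have hΨloc : ∀ y, Ψ y ∈ maximalIdeal ↑(CInt.fiberStalk π z) →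
      y ∈ maximalIdeal (P.presheaf.stalk z) := by
    intro y hy
    rw [IsLocalRing.mem_maximalIdeal, mem_nonunits_iff] at hy ⊢
    exact fun hu => hy (hu.map Ψ)
  obtain ⟨w₁, hw₁⟩ := hΨsurj φ₁
  obtain ⟨w₂, hw₂⟩ := hΨsurj φ₂
  obtain ⟨N₁, hN₁⟩ := exists_pow_mem_map_of_minimalPrimes (hV.primeIdealOf ⟨z, hzV⟩).asIdeal 𝔞
    hmin w₁ (hΨloc w₁ (hw₁ ▸ hφ₁m))
  obtain ⟨N₂, hN₂⟩ := exists_pow_mem_map_of_minimalPrimes (hV.primeIdealOf ⟨z, hzV⟩).asIdeal 𝔞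
    hmin w₂ (hΨloc w₂ (hw₂ ▸ hφ₂m))
  obtain ⟨⟨⟨a₁, ha₁⟩, s₁⟩, hs₁⟩ := (IsLocalization.mem_map_algebraMap_iff
    (hV.primeIdealOf ⟨z, hzV⟩).asIdeal.primeCompl (P.presheaf.stalk z)).mp hN₁
  obtain ⟨⟨⟨a₂, ha₂⟩, s₂⟩, hs₂⟩ := (IsLocalization.mem_map_algebraMap_iff
    (hV.primeIdealOf ⟨z, hzV⟩).asIdeal.primeCompl (P.presheaf.stalk z)).mp hN₂
  simp only at hs₁ hs₂
  have hus₁ : IsUnit (algebraMap Γ(P, V) (P.presheaf.stalk z) s₁) :=
    IsLocalization.map_units _ s₁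
  have hus₂ : IsUnit (algebraMap Γ(P, V) (P.presheaf.stalk z) s₂) :=
    IsLocalization.map_units _ s₂
  obtain ⟨H1, H2⟩ := fibre_regular Ψ hΨsurj J hΨJ φ₁ φ₂ hφ₁0 hφ
    (algebraMap Γ(P, V) (P.presheaf.stalk z) a₁) (algebraMap Γ(P, V) (P.presheaf.stalk z) a₂)
    N₁ N₂ (Ψ (algebraMap Γ(P, V) (P.presheaf.stalk z) s₁))
    (Ψ (algebraMap Γ(P, V) (P.presheaf.stalk z) s₂))
    (hus₁.map Ψ) (hus₂.map Ψ)
    (by rw [← hs₁, map_mul, map_pow, hw₁]) (by rw [← hs₂, map_mul, map_pow, hw₂])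
  obtain ⟨c1, c2⟩ := lift_regular (A := Γ(S, W)) (B := Γ(P, V))
    (hV.primeIdealOf ⟨z, hzV⟩).asIdeal (P.presheaf.stalk z)
    (algebraMap Γ(P, V) (P.presheaf.stalk z) a₁) (algebraMap Γ(P, V) (P.presheaf.stalk z) a₂)
    (by rw [← hJ]; exact H1) (by rw [← hJ]; exact H2)
  obtain ⟨g, hgq, hg⟩ := nzd_nhd (A := Γ(S, W)) (hV.primeIdealOf ⟨z, hzV⟩).asIdeal
    (P.presheaf.stalk z) a₁ (by rw [← hJ]; exact H1)
  -- sections on the basic opens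
  obtain ⟨e₁, he₁⟩ := glue_ext U hdense V W₂ h₂ f (P.basicOpen a₁) (hgood a₁ ha₁)
  obtain ⟨e₂, he₂⟩ := glue_ext U hdense V W₂ h₂ f (P.basicOpen a₂) (hgood a₂ ha₂)
  obtain ⟨n₁, c₁, hc₁⟩ := exists_eq_pow_mul_of_isAffineOpen P V hV a₁ e₁
  obtain ⟨n₂, c₂, hc₂⟩ := exists_eq_pow_mul_of_isAffineOpen P V hV a₂ e₂
  have hc₁g : ∀ (y : P) (hy : y ∈ P.basicOpen a₁), gm V y (P.basicOpen_le a₁ hy) c₁ =
      (gm V y (P.basicOpen_le a₁ hy) a₁) ^ n₁ * gm (P.basicOpen a₁) y hy e₁ := by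
    intro y hy
    have h := congrArg (gm (P.basicOpen a₁) y hy) hc₁
    have h' : gm (P.basicOpen a₁) y hy (P.presheaf.map (homOfLE (P.basicOpen_le a₁)).op c₁) =
        (gm (P.basicOpen a₁) y hy (P.presheaf.map (homOfLE (P.basicOpen_le a₁)).op a₁)) ^ n₁ *
          gm (P.basicOpen a₁) y hy e₁ := by
      rw [← map_pow, ← map_mul]
      exact h
    rw [gm_res, gm_res] at h'
    exact h'
  have hc₂g : ∀ (y : P) (hy : y ∈ P.basicOpen a₂), gm V y (P.basicOpen_le a₂ hy) c₂ =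
      (gm V y (P.basicOpen_le a₂ hy) a₂) ^ n₂ * gm (P.basicOpen a₂) y hy e₂ := by
    intro y hy
    have h := congrArg (gm (P.basicOpen a₂) y hy) hc₂
    have h' : gm (P.basicOpen a₂) y hy (P.presheaf.map (homOfLE (P.basicOpen_le a₂)).op c₂) =
        (gm (P.basicOpen a₂) y hy (P.presheaf.map (homOfLE (P.basicOpen_le a₂)).op a₂)) ^ n₂ *
          gm (P.basicOpen a₂) y hy e₂ := by
      rw [← map_pow, ← map_mul]
      exact h
    rw [gm_res, gm_res] at h'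
    exact h'
  have hee : ∀ (y : P) (hy1 : y ∈ P.basicOpen a₁) (hy2 : y ∈ P.basicOpen a₂),
      gm (P.basicOpen a₁) y hy1 e₁ = gm (P.basicOpen a₂) y hy2 e₂ := by
    intro y hy1 hy2
    have key : P.presheaf.map (homOfLE (inf_le_left :
        P.basicOpen a₁ ⊓ P.basicOpen a₂ ≤ P.basicOpen a₁)).op e₁ =
        P.presheaf.map (homOfLE (inf_le_right :
          P.basicOpen a₁ ⊓ P.basicOpen a₂ ≤ P.basicOpen a₂)).op e₂ := by
      refine dens U hdense _ _ _ fun y' hy' hy'U => ?_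
      have hW : y' ∈ W₂ := h₂ ⟨P.basicOpen_le a₁ hy'.1, hy'U⟩
      exact (gm_res (homOfLE inf_le_left) y' hy' e₁).trans
        ((he₁ y' hy'.1 hW).trans ((he₂ y' hy'.2 hW).symm.trans
          (gm_res (homOfLE inf_le_right) y' hy' e₂).symm))
    have h1 := congrArg (gm (P.basicOpen a₁ ⊓ P.basicOpen a₂) y ⟨hy1, hy2⟩) key
    exact (gm_res (homOfLE inf_le_left) y ⟨hy1, hy2⟩ e₁).symm.trans
      (h1.trans (gm_res (homOfLE inf_le_right) y ⟨hy1, hy2⟩ e₂))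
  have hrel : P.presheaf.map (homOfLE (P.basicOpen_le (a₁ * a₂))).op
      (c₁ * a₂ ^ n₂ - c₂ * a₁ ^ n₁) = 0 := by
    refine sec_ext _ _ fun v hv => ?_
    have hv' : v ∈ P.basicOpen a₁ ⊓ P.basicOpen a₂ := by
      rw [← Scheme.basicOpen_mul]
      exact hv
    rw [map_zero, gm_res, map_sub, map_mul, map_mul, map_pow, map_pow, hc₁g v hv'.1,
      hc₂g v hv'.2, hee v hv'.1 hv'.2]
    ring
  obtain ⟨l, hl⟩ := exists_pow_mul_eq_zero_of_res_basicOpen_eq_zero_of_isAffineOpen P hV _ _ hrel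
  have hlg := congrArg (algebraMap Γ(P, V) (P.presheaf.stalk z)) hl
  rw [map_mul, map_pow, map_mul, map_sub, map_mul, map_mul, map_pow, map_pow, map_zero] at hlg
  obtain ⟨ε, hε⟩ := hz_alg _ _ c1 c2 l n₂ n₁ _ _ hlg
  obtain ⟨N₀, hzN₀, e₀, he₀⟩ : ∃ (N₀ : P.Opens) (hzN₀ : z ∈ N₀) (e₀ : Γ(P, N₀)),
      P.presheaf.germ N₀ z hzN₀ e₀ = ε := TopCat.Presheaf.exists_germ_eq P.presheaf (x := z) ε
  have hzVN : z ∈ V ⊓ N₀ := ⟨hzV, hzN₀⟩
  have hgerm : P.presheaf.germ V z hzV c₁ = P.presheaf.germ (V ⊓ N₀) z hzVN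
      ((P.presheaf.map (homOfLE (inf_le_left : V ⊓ N₀ ≤ V)).op a₁) ^ n₁ *
        P.presheaf.map (homOfLE (inf_le_right : V ⊓ N₀ ≤ N₀)).op e₀) := by
    change gm V z hzV c₁ = gm (V ⊓ N₀) z hzVN _
    rw [map_mul, map_pow, gm_res, gm_res]
    exact hε.trans (by rw [← he₀]; rfl)
  obtain ⟨N₂', hzN₂, i₁, i₂, hN₂'⟩ :=
    TopCat.Presheaf.germ_eq P.presheaf z hzV hzVN c₁ _ hgerm
  have hN₂g : ∀ (y : P) (hy : y ∈ N₂'), gm V y (i₁.le hy) c₁ =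
      (gm V y (i₁.le hy) a₁) ^ n₁ * gm N₀ y ((i₂.le hy).2) e₀ := by
    intro y hy
    have h := congrArg (gm N₂' y hy) hN₂'
    rw [gm_res, gm_res, map_mul, map_pow, gm_res, gm_res] at h
    exact h
  have hzg : z ∈ P.basicOpen g := (mem_basicOpen_iff_not_mem_prime hV g z hzV).mpr hgq
  refine ⟨N₂' ⊓ P.basicOpen g, inf_le_left.trans i₁.le, ⟨hzN₂, hzg⟩,
    P.presheaf.map (homOfLE (show N₂' ⊓ P.basicOpen g ≤ N₀ from
      fun y hy => (i₂.le hy.1).2)).op e₀, ?_⟩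
  intro y' hy'N hy'W
  rw [gm_res]
  have hy'V : y' ∈ V := h₁ hy'W
  letI algP' := TopCat.Presheaf.algebra_section_stalk P.presheaf (⟨y', hy'V⟩ : V)
  haveI locP' : IsLocalization.AtPrime (P.presheaf.stalk y')
      (hV.primeIdealOf ⟨y', hy'V⟩).asIdeal := hV.isLocalization_stalk ⟨y', hy'V⟩
  have hgy' : g ∉ (hV.primeIdealOf ⟨y', hy'V⟩).asIdeal :=
    (mem_basicOpen_iff_not_mem_prime hV g y' hy'V).mp hy'N.2
  have hnzd : ∀ w : P.presheaf.stalk y', gm V y' hy'V a₁ * w = 0 → w = 0 :=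
    nzd_of_local (hV.primeIdealOf ⟨y', hy'V⟩).asIdeal a₁ (hg _ hgy')
  have hnzdk := pow_nzd _ hnzd
  have hi := hN₂g y' hy'N.1
  have hii : gm V y' hy'V c₁ = (gm V y' hy'V a₁) ^ n₁ * gm W₂ y' hy'W f := by
    have hδ : ∀ (v : P) (hv : v ∈ W₂), v ∈ P.basicOpen a₁ →
        gm W₂ v hv (P.presheaf.map (homOfLE h₁).op c₁ -
          (P.presheaf.map (homOfLE h₁).op a₁) ^ n₁ * f) = 0 := by
      intro v hv hva
      rw [map_sub, map_mul, map_pow, gm_res, gm_res, hc₁g v hva, he₁ v hva hv, sub_self]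
    obtain ⟨k, hk⟩ := exists_pow_mul_germ_eq_zero W₂ V h₁ a₁ _ hδ y' hy'W
    have h0 := hnzdk k _ hk
    rw [map_sub, map_mul, map_pow, gm_res, gm_res, sub_eq_zero] at h0
    exact h0
  have hfin : (gm V y' hy'V a₁) ^ n₁ *
      (gm N₀ y' ((i₂.le hy'N.1).2) e₀ - gm W₂ y' hy'W f) = 0 := by
    rw [mul_sub, ← hi, ← hii, sub_self]
  exact sub_eq_zero.mp (hnzdk n₁ _ hfin)

/-- **Relative Hartogs lemma**, small affine opens. -/
theorem hartogs_core {P S : Scheme.{u}} (π : P ⟶ S) [Smooth π] [GeometricallyIrreducible π]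
    (U : P.Opens)
    (hU : ∀ x : P, x ∉ U → (2 : WithBot ℕ∞) ≤ ringKrullDim ↑(CInt.fiberStalk π x))
    (hdense : CInt.IsSchematicallyDense U)
    (V : P.Opens) (hV : IsAffineOpen V) (W : S.Opens) (hW : IsAffineOpen W) (hVW : V ≤ π ⁻¹ᵁ W)
    (W₂ : P.Opens) (h₁ : W₂ ≤ V) (h₂ : V ⊓ U ≤ W₂) (f : Γ(P, W₂)) :
    ∃ e : Γ(P, V), ∀ (y : P) (hy : y ∈ W₂), gm V y (h₁ hy) e = gm W₂ y hy f := by
  suffices hall : ∀ y ∈ V, ExtAt V W₂ f y by
    obtain ⟨e, he⟩ := glue_ext U hdense V W₂ h₂ f V hall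
    exact ⟨e, fun y hy => he y (h₁ hy) hy⟩
  by_contra hbad
  push Not at hbad
  obtain ⟨z₀, hz₀V, hz₀⟩ := hbad
  let 𝔞 : Ideal Γ(P, V) := ⨅ (y : {y : P // y ∈ V ∧ ¬ ExtAt V W₂ f y}),
    (hV.primeIdealOf ⟨y.1, y.2.1⟩).asIdeal
  have h𝔞le : 𝔞 ≤ (hV.primeIdealOf ⟨z₀, hz₀V⟩).asIdeal :=
    iInf_le (fun y : {y : P // y ∈ V ∧ ¬ ExtAt V W₂ f y} =>
      (hV.primeIdealOf ⟨y.1, y.2.1⟩).asIdeal) ⟨z₀, hz₀V, hz₀⟩
  obtain ⟨q, hqmin, hqle⟩ := Ideal.exists_minimalPrimes_le h𝔞le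
  haveI hqprime : q.IsPrime := hqmin.1.1
  have hzV : hV.fromSpec ⟨q, hqprime⟩ ∈ V := by
    have h0 : hV.fromSpec ⟨q, hqprime⟩ ∈ Set.range hV.fromSpec := ⟨_, rfl⟩
    rw [hV.range_fromSpec] at h0
    exact h0
  have hqz : hV.primeIdealOf ⟨hV.fromSpec ⟨q, hqprime⟩, hzV⟩ = ⟨q, hqprime⟩ := by
    apply hV.fromSpec.isOpenEmbedding.injective
    exact hV.fromSpec_primeIdealOf ⟨_, hzV⟩
  have hqz' : (hV.primeIdealOf ⟨hV.fromSpec ⟨q, hqprime⟩, hzV⟩).asIdeal = q :=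
    congrArg PrimeSpectrum.asIdeal hqz
  have hgood : ∀ b ∈ 𝔞, ∀ y ∈ P.basicOpen b, ExtAt V W₂ f y := by
    intro b hb y hyb
    by_contra hne
    have hyV : y ∈ V := P.basicOpen_le b hyb
    have h0 : b ∈ (hV.primeIdealOf ⟨y, hyV⟩).asIdeal :=
      (Ideal.mem_iInf.mp hb) ⟨y, hyV, hne⟩
    exact ((mem_basicOpen_iff_not_mem_prime hV b y hyV).mp hyb) h0
  have hzbad : ¬ ExtAt V W₂ f (hV.fromSpec ⟨q, hqprime⟩) := by
    rintro ⟨N, hNV, hzN, e, he⟩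
    obtain ⟨b, hbN, hzb⟩ := hV.exists_basicOpen_le (V := N) ⟨_, hzN⟩ hzV
    have hb𝔞 : b ∈ 𝔞 := by
      rw [Ideal.mem_iInf]
      rintro ⟨y, hyV, hybad⟩
      by_contra hnb
      exact hybad ⟨N, hNV, hbN ((mem_basicOpen_iff_not_mem_prime hV b y hyV).mpr hnb), e, he⟩
    have h0 : b ∈ q := hqmin.1.2 hb𝔞
    rw [← hqz'] at h0
    exact ((mem_basicOpen_iff_not_mem_prime hV b _ hzV).mp hzb) h0
  have hzU : hV.fromSpec ⟨q, hqprime⟩ ∉ U := by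
    intro h
    exact hzbad ⟨W₂, h₁, h₂ ⟨hzV, h⟩, f, fun y' _ _ => rfl⟩
  refine hzbad (key_step π U hdense V hV W hW hVW W₂ h₁ h₂ f _ hzV (hU _ hzU) 𝔞 ?_ hgood)
  rw [hqz']
  exact hqmin

end Groth.Agent.H8.FibDepth2
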