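import Mathlib
import Groth.Prelude.Def_CInt
import Groth.Agent.Lib.Helper8.FibDepth2.Hartogs
import Groth.Agent.Lib.Helper8.BigOpen.Geom

/-!
# Extending sections of affine morphisms over big opens (helper8; S16427)
-/

set_option autoImplicit false
universe u
open CategoryTheory CategoryTheory.Limits AlgebraicGeometry TopologicalSpace

namespace Groth.Agent.H8.FibDepth2

open Groth.Agent.H8.BigOpen Groth.Agent.H8.NormNormal

/-! ### scheme-theoretic dominance -/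

theorem isSTD_of_injective {X Y : Scheme.{u}} (f : X ⟶ Y)
    (h : ∀ U : Y.affineOpens, Function.Injective (f.app U.1).hom) :
    IsSchemeTheoreticallyDominant f := by
  refine ⟨eq_bot_iff.mpr ?_⟩
  rw [Scheme.IdealSheafData.le_def]
  intro U x hx
  have hx' := f.ideal_ker_le U hx
  have h0 : x = 0 :=
    (injective_iff_map_eq_zero (f.app U.1).hom).mp (h U) x (RingHom.mem_ker.mp hx')
  rw [h0]
  exact zero_mem _

set_option backward.isDefEq.respectTransparency false in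
theorem ext_of_std {W X Y Z : Scheme.{u}} {f g : X ⟶ Y} (s : Y ⟶ Z) [IsSeparated s]
    (h : f ≫ s = g ≫ s) (ι : W ⟶ X) [IsSchemeTheoreticallyDominant ι] (hU : ι ≫ f = ι ≫ g) :
    f = g := by
  let X' : Over Z := Over.mk (f ≫ s)
  let Y' : Over Z := Over.mk s
  let U' : Over Z := Over.mk (ι ≫ f ≫ s)
  let f' : X' ⟶ Y' := Over.homMk f
  let g' : X' ⟶ Y' := Over.homMk g
  let ι' : U' ⟶ X' := Over.homMk ι
  have : IsSeparated Y'.hom := ‹_›
  have hcond : ι' ≫ f' = ι' ≫ g' := by ext1; exact hU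
  have hfac : (equalizer.lift ι' hcond).left ≫ (equalizer.ι f' g').left = ι :=
    congrArg (fun φ : U' ⟶ X' => φ.left) (equalizer.lift_ι ι' hcond)
  have hker : (equalizer.ι f' g').left.ker = ⊥ := by
    have h1 := Scheme.Hom.le_ker_comp (equalizer.lift ι' hcond).left (equalizer.ι f' g').left
    have h2 : ((equalizer.lift ι' hcond).left ≫ (equalizer.ι f' g').left).ker = ⊥ :=
      (congrArg (fun φ : U'.left ⟶ X'.left => Scheme.Hom.ker φ) hfac).trans ι.ker_eq_bot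
    exact eq_bot_iff.mpr (h1.trans h2.le)
  have : IsIso (equalizer.ι f' g').left := IsClosedImmersion.isIso_iff_ker_eq_bot.mpr hker
  rw [← cancel_epi (equalizer.ι f' g').left]
  exact congr($(equalizer.condition f' g').left)

/-! ### morphisms into affine schemes -/

theorem exists_hom_appTop {T Z : Scheme.{u}} [IsAffine Z] (φ : Γ(Z, ⊤) ⟶ Γ(T, ⊤)) :
    ∃ g : T ⟶ Z, g.appTop = φ := by
  obtain ⟨g, hg⟩ : ∃ g : T ⟶ Z, g = T.toSpecΓ ≫ Spec.map φ ≫ inv Z.toSpecΓ := ⟨_, rfl⟩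
  have h1 : g ≫ Z.toSpecΓ = T.toSpecΓ ≫ Spec.map φ := by
    rw [hg]
    simp only [Category.assoc, IsIso.inv_hom_id, Category.comp_id]
  have h2 : T.toSpecΓ ≫ Spec.map g.appTop = T.toSpecΓ ≫ Spec.map φ := by
    rw [← Scheme.toSpecΓ_naturality, h1]
  have h3 := congrArg Scheme.Hom.appTop h2
  rw [Scheme.Hom.comp_appTop, Scheme.Hom.comp_appTop, Scheme.toSpecΓ_appTop,
    Scheme.ΓSpecIso_naturality, Scheme.ΓSpecIso_naturality] at h3
  exact ⟨g, (cancel_epi _).mp h3⟩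

theorem local_ext {T Z U' : Scheme.{u}} [IsAffine Z] [IsAffine T] (q : Z ⟶ T) (ι : U' ⟶ T)
    (hbij : Function.Bijective ι.appTop.hom) (s : U' ⟶ Z) (hs : s ≫ q = ι) :
    ∃ t : T ⟶ Z, t ≫ q = 𝟙 T ∧ ι ≫ t = s := by
  haveI : IsIso ι.appTop := (ConcreteCategory.isIso_iff_bijective _).mpr hbij
  obtain ⟨t, ht⟩ := exists_hom_appTop (T := T) (Z := Z) (s.appTop ≫ inv ι.appTop)
  refine ⟨t, ?_, ?_⟩
  · apply ext_of_isAffine
    rw [Scheme.Hom.comp_appTop, ht, ← Category.assoc, ← Scheme.Hom.comp_appTop, hs,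
      IsIso.hom_inv_id, Scheme.Hom.id_appTop]
  · apply ext_of_isAffine
    rw [Scheme.Hom.comp_appTop, ht, Category.assoc, IsIso.inv_hom_id, Category.comp_id]

/-! ### transfer of injectivity/bijectivity along open immersions -/

theorem bij_transfer_cat {A B C D E : CommRingCat.{u}} (a : A ⟶ B) (b : B ⟶ C) (c : C ⟶ D)
    (d : A ⟶ E) (e' : E ⟶ D)
    (h : d ≫ e' = (a ≫ b) ≫ c) (hA : Function.Bijective a.hom)
    (hC : Function.Bijective c.hom) (hE : Function.Bijective e'.hom) :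
    (Function.Injective d.hom → Function.Injective b.hom) ∧
    (Function.Bijective d.hom → Function.Bijective b.hom) := by
  have he : ∀ x, c.hom (b.hom (a.hom x)) = e'.hom (d.hom x) := by
    intro x
    have := congrArg (fun φ => φ.hom x) h
    simpa using this.symm
  have hinj : Function.Injective d.hom → Function.Injective b.hom := by
    intro hD y₁ y₂ hy
    obtain ⟨x₁, rfl⟩ := hA.2 y₁
    obtain ⟨x₂, rfl⟩ := hA.2 y₂
    have h1 : e'.hom (d.hom x₁) = e'.hom (d.hom x₂) := by rw [← he, ← he, hy]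
    rw [hD (hE.1 h1)]
  refine ⟨hinj, fun hD => ⟨hinj hD.1, fun w => ?_⟩⟩
  obtain ⟨v, hv⟩ := hE.2 (c.hom w)
  obtain ⟨x, rfl⟩ := hD.2 v
  exact ⟨a.hom x, hC.1 ((he x).trans hv)⟩

theorem bij_map_eqToHom (X : Scheme.{u}) {U V : X.Opens} (h : U = V) :
    Function.Bijective (X.presheaf.map (eqToHom h).op).hom := by
  haveI : IsIso (X.presheaf.map (eqToHom h).op) := inferInstance
  exact ConcreteCategory.bijective_of_isIso (X.presheaf.map (eqToHom h).op)

theorem HT {P T : Scheme.{u}} (U : P.Opens) (j : T ⟶ P) [IsOpenImmersion j] (V : P.Opens)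
    (hV : V ≤ j.opensRange) (W' : T.Opens) (hW' : j ⁻¹ᵁ V = W') :
    (Function.Injective (U.ι.app V).hom →
      Function.Injective ((pullback.snd U.ι j).app W').hom) ∧
    (Function.Bijective (U.ι.app V).hom →
      Function.Bijective ((pullback.snd U.ι j).app W').hom) := by
  subst hW'
  have e := Scheme.Hom.congr_app (pullback.condition (f := U.ι) (g := j)) V
  rw [Scheme.Hom.comp_app, Scheme.Hom.comp_app] at e
  haveI h1 : IsIso (j.app V) := j.isIso_app V hV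
  haveI h2 : IsIso ((pullback.fst U.ι j).app (U.ι ⁻¹ᵁ V)) := by
    apply Scheme.Hom.isIso_app
    rw [Scheme.Hom.opensRange_pullbackFst]
    exact U.ι.preimage_mono hV
  exact bij_transfer_cat _ _ _ _ _ e (ConcreteCategory.bijective_of_isIso (j.app V))
    (bij_map_eqToHom _ _)
    (ConcreteCategory.bijective_of_isIso ((pullback.fst U.ι j).app (U.ι ⁻¹ᵁ V)))

theorem ι_app_injective {P : Scheme.{u}} (U : P.Opens) (hdense : CInt.IsSchematicallyDense U)
    (V : P.Opens) : Function.Injective (U.ι.app V).hom := by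
  have hO : U.ι ''ᵁ U.ι ⁻¹ᵁ V ≤ V := U.ι.image_preimage_le V
  have hO2 : V ⊓ U ≤ U.ι ''ᵁ U.ι ⁻¹ᵁ V := by
    rw [U.ι.image_preimage_eq_opensRange_inf, Scheme.Opens.opensRange_ι, inf_comm]
  have e : U.ι.app V = P.presheaf.map (homOfLE hO).op := rfl
  rw [e]
  intro x y hxy
  apply hdense V
  refine sec_ext _ _ fun v hv => ?_
  have h1 := congrArg (gm (U.ι ''ᵁ U.ι ⁻¹ᵁ V) v (hO2 hv)) hxy
  exact (gm_res (homOfLE inf_le_left) v hv x).trans
    ((gm_res (homOfLE hO) v (hO2 hv) x).symm.trans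
      (h1.trans ((gm_res (homOfLE hO) v (hO2 hv) y).trans
        (gm_res (homOfLE inf_le_left) v hv y).symm)))

theorem ι_app_surjective {P S : Scheme.{u}} (π : P ⟶ S) [Smooth π] [GeometricallyIrreducible π]
    (U : P.Opens)
    (hU : ∀ x : P, x ∉ U → (2 : WithBot ℕ∞) ≤ ringKrullDim ↑(CInt.fiberStalk π x))
    (hdense : CInt.IsSchematicallyDense U)
    (V : P.Opens) (hV : IsAffineOpen V) (W : S.Opens) (hW : IsAffineOpen W)
    (hVW : V ≤ π ⁻¹ᵁ W) : Function.Surjective (U.ι.app V).hom := by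
  have hO : U.ι ''ᵁ U.ι ⁻¹ᵁ V ≤ V := U.ι.image_preimage_le V
  have hO2 : V ⊓ U ≤ U.ι ''ᵁ U.ι ⁻¹ᵁ V := by
    rw [U.ι.image_preimage_eq_opensRange_inf, Scheme.Opens.opensRange_ι, inf_comm]
  have e : U.ι.app V = P.presheaf.map (homOfLE hO).op := rfl
  rw [e]
  intro f'
  obtain ⟨f, hf⟩ : ∃ f : Γ(P, U.ι ''ᵁ U.ι ⁻¹ᵁ V), f = f' := ⟨f', rfl⟩
  obtain ⟨e', he'⟩ := hartogs_core π U hU hdense V hV W hW hVW (U.ι ''ᵁ U.ι ⁻¹ᵁ V) hO hO2 f
  refine ⟨e', ?_⟩
  have key : P.presheaf.map (homOfLE hO).op e' = f :=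
    sec_ext (Y := P) _ _ fun v hv => (gm_res (homOfLE hO) v hv e').trans (he' v hv)
  exact key.trans hf

theorem std_snd {P T : Scheme.{u}} (U : P.Opens) (hdense : CInt.IsSchematicallyDense U)
    (j : T ⟶ P) [IsOpenImmersion j] : IsSchemeTheoreticallyDominant (pullback.snd U.ι j) := by
  apply isSTD_of_injective
  rintro ⟨W', hW'⟩
  exact (HT U j (j ''ᵁ W') (j.image_le_opensRange W') W' (j.preimage_image_eq W')).1
    (ι_app_injective U hdense _)

theorem appTop_bij {P S : Scheme.{u}} (π : P ⟶ S) [Smooth π] [GeometricallyIrreducible π]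
    (U : P.Opens)
    (hU : ∀ x : P, x ∉ U → (2 : WithBot ℕ∞) ≤ ringKrullDim ↑(CInt.fiberStalk π x))
    (hdense : CInt.IsSchematicallyDense U)
    {T : Scheme.{u}} [IsAffine T] (j : T ⟶ P) [IsOpenImmersion j]
    (W : S.Opens) (hW : IsAffineOpen W) (hjW : j.opensRange ≤ π ⁻¹ᵁ W) :
    Function.Bijective (pullback.snd U.ι j).appTop.hom := by
  have hV : IsAffineOpen j.opensRange := isAffineOpen_opensRange j
  exact (HT U j j.opensRange le_rfl ⊤ j.preimage_opensRange).2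
    ⟨ι_app_injective U hdense _, ι_app_surjective π U hU hdense _ hV W hW hjW⟩

/-! ### local sections, uniqueness and gluing -/

theorem local_section {P S Y : Scheme.{u}} (π : P ⟶ S) [Smooth π] [GeometricallyIrreducible π]
    (U : P.Opens)
    (hU : ∀ x : P, x ∉ U → (2 : WithBot ℕ∞) ≤ ringKrullDim ↑(CInt.fiberStalk π x))
    (hdense : CInt.IsSchematicallyDense U)
    (p : Y ⟶ P) [IsAffineHom p] (s : (U : Scheme.{u}) ⟶ Y) (hs : s ≫ p = U.ι)
    {T : Scheme.{u}} [IsAffine T] (j : T ⟶ P) [IsOpenImmersion j]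
    (W : S.Opens) (hW : IsAffineOpen W) (hjW : j.opensRange ≤ π ⁻¹ᵁ W) :
    ∃ f : T ⟶ Y, f ≫ p = j ∧ pullback.snd U.ι j ≫ f = pullback.fst U.ι j ≫ s := by
  have hcond : (pullback.fst U.ι j ≫ s) ≫ p = pullback.snd U.ι j ≫ j := by
    rw [Category.assoc, hs, pullback.condition]
  let sT : pullback U.ι j ⟶ pullback p j :=
    pullback.lift (pullback.fst U.ι j ≫ s) (pullback.snd U.ι j) hcond
  have hsT : sT ≫ pullback.snd p j = pullback.snd U.ι j := pullback.lift_snd _ _ _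
  obtain ⟨t, ht1, ht2⟩ := local_ext (pullback.snd p j) (pullback.snd U.ι j)
    (appTop_bij π U hU hdense j W hW hjW) sT hsT
  refine ⟨t ≫ pullback.fst p j, ?_, ?_⟩
  · rw [Category.assoc, pullback.condition, ← Category.assoc, ht1, Category.id_comp]
  · rw [← Category.assoc, ht2, pullback.lift_fst]

theorem restrict_compat {P Y : Scheme.{u}} (U : P.Opens) (s : (U : Scheme.{u}) ⟶ Y)
    {T T' : Scheme.{u}} (j : T ⟶ P) (j' : T' ⟶ P) (g : T' ⟶ T) (hg : g ≫ j = j')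
    (f : T ⟶ Y) (e : pullback.snd U.ι j ≫ f = pullback.fst U.ι j ≫ s) :
    pullback.snd U.ι j' ≫ g ≫ f = pullback.fst U.ι j' ≫ s := by
  have hcond : pullback.fst U.ι j' ≫ U.ι = (pullback.snd U.ι j' ≫ g) ≫ j := by
    rw [Category.assoc, hg, pullback.condition]
  let m : pullback U.ι j' ⟶ pullback U.ι j :=
    pullback.lift (pullback.fst U.ι j') (pullback.snd U.ι j' ≫ g) hcond
  calc pullback.snd U.ι j' ≫ g ≫ f = (m ≫ pullback.snd U.ι j) ≫ f := by
        rw [pullback.lift_snd, Category.assoc]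
    _ = m ≫ pullback.fst U.ι j ≫ s := by rw [Category.assoc, e]
    _ = pullback.fst U.ι j' ≫ s := by rw [← Category.assoc, pullback.lift_fst]

theorem hom_unique {P Y : Scheme.{u}} (p : Y ⟶ P) [IsSeparated p] (U : P.Opens)
    (hdense : CInt.IsSchematicallyDense U) (s : (U : Scheme.{u}) ⟶ Y)
    {T : Scheme.{u}} (j : T ⟶ P) [IsOpenImmersion j] (f₁ f₂ : T ⟶ Y)
    (h₁ : f₁ ≫ p = j) (h₂ : f₂ ≫ p = j)
    (e₁ : pullback.snd U.ι j ≫ f₁ = pullback.fst U.ι j ≫ s)
    (e₂ : pullback.snd U.ι j ≫ f₂ = pullback.fst U.ι j ≫ s) : f₁ = f₂ := by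
  haveI : IsSchemeTheoreticallyDominant (pullback.snd U.ι j) := std_snd U hdense j
  exact ext_of_std p (h₁.trans h₂.symm) (pullback.snd U.ι j) (e₁.trans e₂.symm)

theorem glue_main {P Y : Scheme.{u}} (p : Y ⟶ P) [IsSeparated p] (U : P.Opens)
    (hdense : CInt.IsSchematicallyDense U) (s : (U : Scheme.{u}) ⟶ Y)
    (𝒰 : P.OpenCover)
    (hloc : ∀ i, ∃ f : 𝒰.X i ⟶ Y, f ≫ p = 𝒰.f i ∧
      pullback.snd U.ι (𝒰.f i) ≫ f = pullback.fst U.ι (𝒰.f i) ≫ s) :
    ∃! t : P ⟶ Y, t ≫ p = 𝟙 P ∧ U.ι ≫ t = s := by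
  choose f hf1 hf2 using hloc
  have hcompat : ∀ i i', pullback.fst (𝒰.f i) (𝒰.f i') ≫ f i =
      pullback.snd (𝒰.f i) (𝒰.f i') ≫ f i' := by
    intro i i'
    refine hom_unique p U hdense s (pullback.fst (𝒰.f i) (𝒰.f i') ≫ 𝒰.f i) _ _ ?_ ?_ ?_ ?_
    · rw [Category.assoc, hf1]
    · rw [Category.assoc, hf1, pullback.condition]
    · exact restrict_compat U s (𝒰.f i) _ (pullback.fst (𝒰.f i) (𝒰.f i')) rfl (f i) (hf2 i)
    · exact restrict_compat U s (𝒰.f i') _ (pullback.snd (𝒰.f i) (𝒰.f i'))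
        pullback.condition.symm (f i') (hf2 i')
  let t : P ⟶ Y := 𝒰.glueMorphisms f hcompat
  have ht : ∀ i, 𝒰.f i ≫ t = f i := fun i => 𝒰.ι_glueMorphisms f hcompat i
  have ht1 : t ≫ p = 𝟙 P := by
    refine 𝒰.hom_ext _ _ fun i => ?_
    rw [← Category.assoc, ht, hf1, Category.comp_id]
  have ht2 : U.ι ≫ t = s := by
    refine Scheme.Cover.hom_ext (𝒰.pullback₁ U.ι) _ _ fun i => ?_
    change pullback.fst U.ι (𝒰.f i) ≫ U.ι ≫ t = pullback.fst U.ι (𝒰.f i) ≫ s
    rw [← Category.assoc, pullback.condition, Category.assoc, ht, hf2]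
  refine ⟨t, ⟨ht1, ht2⟩, ?_⟩
  rintro t' ⟨ht'1, ht'2⟩
  haveI : IsSchemeTheoreticallyDominant U.ι :=
    isSTD_of_injective U.ι fun V => ι_app_injective U hdense V.1
  exact ext_of_std p (ht'1.trans ht1.symm) U.ι (ht'2.trans ht2.symm)

/-- Sections of an affine morphism over a big open extend uniquely. -/
theorem ext_main {P S Y : Scheme.{u}} (π : P ⟶ S) [Smooth π] [GeometricallyIrreducible π]
    (U : P.Opens)
    (hU : ∀ x : P, x ∉ U → (2 : WithBot ℕ∞) ≤ ringKrullDim ↑(CInt.fiberStalk π x))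
    (hdense : CInt.IsSchematicallyDense U)
    (p : Y ⟶ P) [IsAffineHom p] (s : (U : Scheme.{u}) ⟶ Y) (hs : s ≫ p = U.ι) :
    ∃! t : P ⟶ Y, t ≫ p = 𝟙 P ∧ U.ι ≫ t = s := by
  have hcover : IsOpenCover (fun i : {V : P.Opens // IsAffineOpen V ∧
      ∃ W : S.Opens, IsAffineOpen W ∧ V ≤ π ⁻¹ᵁ W} => i.1) := by
    refine IsOpenCover.mk (eq_top_iff.mpr fun x _ => ?_)
    obtain ⟨W, hW, hxW, -⟩ := exists_isAffineOpen_mem_and_subset (x := π x) (U := ⊤) trivial
    obtain ⟨V, hV, hxV, hVsub⟩ :=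
      exists_isAffineOpen_mem_and_subset (x := x) (U := π ⁻¹ᵁ W) hxW
    exact Opens.mem_iSup.mpr ⟨⟨V, hV, W, hW, hVsub⟩, hxV⟩
  refine glue_main p U hdense s (P.openCoverOfIsOpenCover _ hcover) fun i => ?_
  obtain ⟨V, hV, W, hW, hVW⟩ := i
  haveI : IsAffine (V : Scheme.{u}) := hV
  exact local_section π U hU hdense p s hs V.ι W hW
    (by rw [Scheme.Opens.opensRange_ι]; exact hVW)

theorem ext_main_k (k : Type u) [Field k] (X S Y : Scheme.{u})
    (a : X ⟶ Spec (CommRingCat.of k)) (b : S ⟶ Spec (CommRingCat.of k))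
    [Smooth a] [GeometricallyIrreducible a]
    (U : (pullback a b).Opens)
    (hU : ∀ x : ↥(pullback a b), x ∉ U →
      (2 : WithBot ℕ∞) ≤ ringKrullDim ↑(CInt.fiberStalk (pullback.snd a b) x))
    (p : Y ⟶ pullback a b) [IsAffineHom p]
    (s : (U : Scheme.{u}) ⟶ Y) (hs : s ≫ p = U.ι) :
    ∃! t : pullback a b ⟶ Y, t ≫ p = 𝟙 (pullback a b) ∧ U.ι ≫ t = s :=
  ext_main (pullback.snd a b) U hU (BigOpen.main k X S a b U hU) p s hs

end Groth.Agent.H8.FibDepth2
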